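import Groth.Prelude.Def_LogNCD
import Groth.Agent.Lib.CycNorm12.Local
import Groth.Agent.Lib.ExtPowX.SesSheaf

/-!
# Affine-local algebra of the logarithmic module: residues, kernels, inclusions
-/

set_option autoImplicit false
universe u

open CategoryTheory CategoryTheory.Limits AlgebraicGeometry Opposite TopologicalSpace

noncomputable section

namespace GrothLib.LogSeq1

variable {X S : Scheme.{u}}

/-- Restriction of sections. -/
abbrev rs (M : X.Modules) {U V : X.Opens} (h : V ≤ U) (m : M.val.obj (op U)) : M.val.obj (op V) :=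
  M.val.map (homOfLE h).op m

/-- A morphism on sections, linear over functions. -/
abbrev ap {M N : X.Modules} (φ : M ⟶ N) (U : X.Opens) : M.val.obj (op U) →ₗ[Γ(X, U)] N.val.obj (op U) :=
  (φ.val.app (op U)).hom

theorem rs_smul (M : X.Modules) {U V : X.Opens} (h : V ≤ U) (a : Γ(X, U)) (m : M.val.obj (op U)) :
    rs M h (a • m) = (X.presheaf.map (homOfLE h).op a) • rs M h m :=
  M.val.map_smul (homOfLE h).op a m

theorem ap_rs {M N : X.Modules} (φ : M ⟶ N) {U V : X.Opens} (h : V ≤ U) (m : M.val.obj (op U)) :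
    ap φ V (rs M h m) = rs N h (ap φ U m) :=
  PresheafOfModules.naturality_apply φ.val (homOfLE h).op m

/-- A system of equations on an affine open. -/
def IsEq {r : ℕ} (D : Fin r → X.IdealSheafData) (U : X.affineOpens) (g : Fin r → Γ(X, U.1)) : Prop :=
  ∀ i, (D i).ideal U = Ideal.span {g i}

theorem IsEq.mono {r : ℕ} {D : Fin r → X.IdealSheafData} {U V : X.affineOpens} {g : Fin r → Γ(X, U.1)}
    (hg : IsEq D U g) (h : V.1 ≤ U.1) : IsEq D V fun i => X.presheaf.map (homOfLE h).op (g i) := by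
  intro i
  rw [← (D i).map_ideal (U := V) (V := U) h, hg i, Ideal.map_span, Set.image_singleton]
  rfl

theorem exists_isEq {f : X ⟶ S} {r : ℕ} {D : Fin r → X.IdealSheafData} (hD : LogNCD.IsNCD D f) (x : X)
    (N : X.Opens) (hx : x ∈ N) :
    ∃ (U : X.affineOpens) (g : Fin r → Γ(X, U.1)), x ∈ U.1 ∧ U.1 ≤ N ∧ IsEq D U g := by
  classical
  by_cases hT : Nonempty (LogNCD.Through D x)
  · obtain ⟨W, hxW, n, v, e, -, -, h1, h2⟩ := hD x hT
    obtain ⟨U, hU, hxU, hUle⟩ := Opens.isBasis_iff_nbhd.1 X.isBasis_affineOpens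
      (show x ∈ (N ⊓ W : X.Opens) from ⟨hx, hxW⟩)
    have hUW : U ≤ W := fun y hy => (hUle hy).2
    refine ⟨⟨U, hU⟩, fun i => if h : x ∈ (D i).support then LogNCD.sectOn W hUW (v (ULift.up (e ⟨i, h⟩))) else 1,
      hxU, fun y hy => (hUle hy).1, fun i => ?_⟩
    by_cases h : x ∈ (D i).support
    · simp only [dif_pos h]; exact h1 ⟨i, h⟩ ⟨U, hU⟩ hUW
    · simp only [dif_neg h, Ideal.span_singleton_one]; exact h2 i h ⟨U, hU⟩ hUW
  · have hout : ∀ i, x ∉ (D i).support := fun i hi => hT ⟨⟨i, hi⟩⟩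
    obtain ⟨U, hU, hxU, hUle⟩ := Opens.isBasis_iff_nbhd.1 X.isBasis_affineOpens
      (show x ∈ (⟨(N : Set X) ∩ ⋂ i, ((D i).support : Set X)ᶜ,
        N.isOpen.inter (isOpen_iInter_of_finite fun i => (D i).support.isClosed.isOpen_compl)⟩ : X.Opens) from
          ⟨hx, Set.mem_iInter.2 hout⟩)
    refine ⟨⟨U, hU⟩, fun _ => 1, hxU, fun y hy => (hUle hy).1, fun i => ?_⟩
    rw [Ideal.span_singleton_one]
    exact CycNorm12.ideal_eq_top_of_disjoint (D i) ⟨U, hU⟩
      (Set.disjoint_left.2 fun y hy => Set.mem_iInter.1 (hUle hy).2 i)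

theorem injective_ap_of_mono {M N : X.Modules} (φ : M ⟶ N) [Mono φ] (W : X.Opens) :
    Function.Injective (ap φ W) := by
  haveI : Mono ((Scheme.Modules.toPresheaf X).map φ) := inferInstance
  exact (AddCommGrpCat.mono_iff_injective _).1 ((NatTrans.mono_iff_mono_app _).1 this (op W))

theorem smul_oneOn (I : X.IdealSheafData) (U : X.Opens) (a : Γ(X, U)) :
    a • LogNCD.oneOn I U = ap (ClSub.toSubscheme I) U (OmegaSh.strSect X U a) := by
  refine ((ap (ClSub.toSubscheme I) U).map_smul a _).symm.trans ?_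
  exact congrArg (ap (ClSub.toSubscheme I) U) (mul_one a)

theorem smul_oneOn_eq_zero (I : X.IdealSheafData) (U : X.affineOpens) (a : Γ(X, U.1)) :
    a • LogNCD.oneOn I U.1 = 0 ↔ a ∈ I.ideal U := by
  rw [smul_oneOn, ← I.ker_subschemeι_app U]
  exact Iff.rfl

theorem exists_smul_oneOn (I : X.IdealSheafData) (U : X.affineOpens) (z : (ClSub.quotMod I).val.obj (op U.1)) :
    ∃ a : Γ(X, U.1), a • LogNCD.oneOn I U.1 = z := by
  obtain ⟨a, ha⟩ := I.subschemeι_app_surjective U z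
  exact ⟨a, (smul_oneOn I U.1 a).trans ha⟩

variable {f : X ⟶ S} {Ω' : X.Modules} {d : OmegaSh.Der f Ω'} {r : ℕ} {D : Fin r → X.IdealSheafData}
  (Λ : LogNCD.LogMod d D) (U : X.affineOpens) (g : Fin r → Γ(X, U.1))

theorem ι_injective (W : X.Opens) : Function.Injective (ap Λ.ι W) := by
  haveI := Λ.mono
  exact GrothLib.LogSeq1.injective_ap_of_mono Λ.ι W

theorem eq_of_torsion (hg : IsEq D U g) {x y : Λ.L.val.obj (op U.1)} (h : (∏ i, g i) • x = (∏ i, g i) • y) :
    x = y :=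
  sub_eq_zero.1 ((Λ.rule U g hg).1 _ (by rw [smul_sub, h, sub_self]))

theorem exists_repr (hg : IsEq D U g) :
    ∃ dl : Fin r → Λ.L.val.obj (op U.1),
      (∀ i, g i • dl i = ap Λ.ι U.1 (d.app U.1 (g i))) ∧
      (∀ x : Λ.L.val.obj (op U.1), ∃ (ω : Ω'.val.obj (op U.1)) (a : Fin r → Γ(X, U.1)),
        x = ap Λ.ι U.1 ω + ∑ i, a i • dl i) ∧
      ∀ (ω : Ω'.val.obj (op U.1)) (a : Fin r → Γ(X, U.1)) (j : Fin r),
        ap (Λ.res j) U.1 (ap Λ.ι U.1 ω + ∑ i, a i • dl i) = a j • LogNCD.oneOn (D j) U.1 := by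
  classical
  obtain ⟨-, dl, h1, h2, h3, h4⟩ := Λ.rule U g hg
  refine ⟨dl, h1, fun x => ?_, fun ω a j => ?_⟩
  · have hx : x ∈ Submodule.span Γ(X, U.1) (Set.range (ap Λ.ι U.1) ∪ Set.range dl) :=
      (SetLike.ext_iff.1 h2 x).2 trivial
    rw [Submodule.span_union, Submodule.mem_sup] at hx
    obtain ⟨y, hy, z, hz, rfl⟩ := hx
    rw [← LinearMap.coe_range, Submodule.span_eq] at hy
    obtain ⟨ω, rfl⟩ := hy
    obtain ⟨a, rfl⟩ := (Submodule.mem_span_range_iff_exists_fun Γ(X, U.1)).1 hz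
    exact ⟨ω, a, rfl⟩
  · have h0 : ap (Λ.res j) U.1 (ap Λ.ι U.1 ω) = 0 :=
      congrArg (fun k => ap k U.1 ω) (Λ.res_ι j)
    rw [map_add, h0, zero_add, map_sum, Finset.sum_eq_single j]
    · rw [map_smul]; exact congrArg _ (h3 j)
    · intro i _ hij
      rw [map_smul, show ap (Λ.res j) U.1 (dl i) = 0 from h4 i j hij, smul_zero]
    · intro h; exact absurd (Finset.mem_univ j) h

/-- Sections with no residue come from forms without poles. -/
theorem exists_of_res_eq_zero (hg : IsEq D U g) (x : Λ.L.val.obj (op U.1))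
    (hx : ∀ j, ap (Λ.res j) U.1 x = 0) : ∃ ω, ap Λ.ι U.1 ω = x := by
  obtain ⟨dl, h1, hr, hres⟩ := exists_repr Λ U g hg
  obtain ⟨ω, a, rfl⟩ := hr x
  have ha : ∀ j, ∃ c, c * g j = a j := fun j => by
    have := (smul_oneOn_eq_zero (D j) U (a j)).1 ((hres ω a j).symm.trans (hx j))
    rwa [hg j, Ideal.mem_span_singleton'] at this
  choose c hc using ha
  let δ : Fin r → Ω'.val.obj (op U.1) := fun j => d.app U.1 (g j)
  refine ⟨ω + ∑ j, c j • δ j, ?_⟩
  rw [map_add, map_sum]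
  refine congrArg _ (Finset.sum_congr rfl fun j _ => ?_)
  rw [map_smul, show ap Λ.ι U.1 (δ j) = g j • dl j from (h1 j).symm, smul_smul, hc]

/-- Every tuple of residues is attained. -/
theorem exists_of_res (hg : IsEq D U g) (z : ∀ j, (ClSub.quotMod (D j)).val.obj (op U.1)) :
    ∃ x, ∀ j, ap (Λ.res j) U.1 x = z j := by
  obtain ⟨dl, -, -, hres⟩ := exists_repr Λ U g hg
  choose a ha using fun j => exists_smul_oneOn (D j) U (z j)
  exact ⟨_, fun j => (hres 0 a j).trans (ha j)⟩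

/-- Sections of a finite product are determined by their components. -/
theorem pi_ext {ι : Type} [Finite ι] (F : ι → X.Modules) [HasProduct F] (W : X.Opens)
    (σ τ : (∏ᶜ F).val.obj (op W)) (h : ∀ j, ap (Pi.π F j) W σ = ap (Pi.π F j) W τ) : σ = τ := by
  classical
  haveI := Fintype.ofFinite ι
  let s : ∀ j, F j ⟶ ∏ᶜ F := fun j => Pi.lift fun k => if e : j = k then eqToHom (congrArg F e) else 0
  have hid : (∑ j, Pi.π F j ≫ s j) = 𝟙 (∏ᶜ F) := by
    refine Pi.hom_ext _ _ fun k => ?_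
    rw [Preadditive.sum_comp, Finset.sum_eq_single k, Category.id_comp]
    · simp [s]
    · intro j _ hj; simp [s, dif_neg hj]
    · intro h; exact absurd (Finset.mem_univ k) h
  let evh : ((∏ᶜ F) ⟶ (∏ᶜ F)) → (∏ᶜ F).val.obj (op W) →+ (∏ᶜ F).val.obj (op W) :=
    fun φ => (ap φ W).toAddMonoidHom
  let E : ((∏ᶜ F) ⟶ (∏ᶜ F)) →+ ((∏ᶜ F).val.obj (op W) →+ (∏ᶜ F).val.obj (op W)) :=
    AddMonoidHom.mk' evh fun φ ψ => rfl
  have key : ∀ x : (∏ᶜ F).val.obj (op W), x = ∑ j, ap (s j) W (ap (Pi.π F j) W x) := fun x => by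
    have e := congrArg (fun φ => E φ x) hid
    simp only [map_sum, AddMonoidHom.finsetSum_apply] at e
    exact e.symm
  rw [key σ, key τ]
  simp only [h]

end GrothLib.LogSeq1
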