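import Groth.Agent.Lib.LogSeq1.Span
import Groth.Agent.Lib.OmegaLocal4.Affine

/-!
# Existence of the logarithmic module
-/

set_option autoImplicit false
universe u

open CategoryTheory CategoryTheory.Limits AlgebraicGeometry Opposite TopologicalSpace
open GrothLib.FinCov (IsFrame)

noncomputable section

namespace GrothLib.LogSeq1

variable {X S : Scheme.{u}} {f : X ⟶ S} [Smooth f] {Ω' : X.Modules} (d : OmegaSh.Der f Ω') {r : ℕ}
  (D : Fin r → X.IdealSheafData)

/-- A section of fractions with logarithmic poles. -/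
def InLog (W : X.Opens) (m : (amb (outside D) Ω').val.obj (op W)) : Prop :=
  ∀ p ∈ W, ∃ (V : X.affineOpens) (g : Fin r → Γ(X, V.1)) (hg : IsEq D V g) (hVW : V.1 ≤ W),
    p ∈ V.1 ∧ ∃ w a, rs _ hVW m = comb d hg w a

variable {d D}

theorem smulSep_amb (hd : OmegaSh.IsUniversal d) {U : X.affineOpens} {g : Fin r → Γ(X, U.1)} (hg : IsEq D U g)
    (h : Γ(X, U.1)) (z : (amb (outside D) Ω').val.obj (op U.1))
    (hz : rs _ (X.basicOpen_le h) z = 0) : ∃ n : ℕ, h ^ n • z = 0 := by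
  haveI := OmegaLocal4.isQuasicoherent hd
  have hA : IsAffineOpen (oW (outside D) U.1) := by rw [oW_outside hg]; exact U.2.basicOpen _
  let h' := X.presheaf.map (homOfLE (oW_le (outside D) U.1)).op h
  have hle : X.basicOpen h' ≤ oW (outside D) (X.basicOpen h) := fun x hx => by
    rw [Scheme.basicOpen_res] at hx
    exact mem_oW.2 ⟨(mem_oW.1 hx.1).1, hx.2⟩
  let z' : Ω'.val.obj (op (oW (outside D) U.1)) := z
  have h1 : Ω'.presheaf.map (homOfLE (X.basicOpen_le h')).op z' = 0 := by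
    have e : rs Ω' hle (rs Ω' ((outside D).ι.image_mono ((outside D).ι.preimage_mono (X.basicOpen_le h))) z') = 0 :=
      (congrArg (rs Ω' hle) hz).trans (map_zero _)
    exact (rs_rs Ω' _ _ z').symm.trans e
  obtain ⟨n, hn⟩ := (QCoh.smulLift_and_smulSep_of_isAffineOpen hA Ω' h').2 z' h1
  refine ⟨n, (amb_smul (outside D) Ω' U.1 _ z).trans ?_⟩
  rw [map_pow]
  exact hn

theorem exists_comb_of_inLog (hd : OmegaSh.IsUniversal d) (hD : LogNCD.IsNCD D f) {U : X.affineOpens}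
    {g : Fin r → Γ(X, U.1)} (hg : IsEq D U g) (m : (amb (outside D) Ω').val.obj (op U.1))
    (hm : InLog d D U.1 m) : ∃ w a, m = comb d hg w a := by
  haveI := OmegaLocal4.isQuasicoherent hd
  let N : Submodule Γ(X, U.1) ((amb (outside D) Ω').val.obj (op U.1)) :=
    { carrier := {z | ∃ w a, z = comb d hg w a}
      add_mem' := by rintro _ _ ⟨w, a, rfl⟩ ⟨w', a', rfl⟩; exact ⟨_, _, (comb_add hg w w' a a').symm⟩
      zero_mem' := ⟨0, 0, by simp [comb]⟩
      smul_mem' := by rintro c _ ⟨w, a, rfl⟩; exact ⟨_, _, (comb_smul hg c w a).symm⟩ }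
  let I : Ideal Γ(X, U.1) :=
    { carrier := {c | c • m ∈ N}
      add_mem' := fun {a b} ha hb => by rw [Set.mem_setOf_eq, add_smul]; exact N.add_mem ha hb
      zero_mem' := by rw [Set.mem_setOf_eq, zero_smul]; exact N.zero_mem
      smul_mem' := fun c x hx => by rw [Set.mem_setOf_eq, smul_eq_mul, mul_smul]; exact N.smul_mem c hx }
  suffices h1 : I = ⊤ by
    have h2 : (1 : Γ(X, U.1)) • m ∈ N := (Ideal.eq_top_iff_one I).1 h1
    rwa [one_smul] at h2
  by_contra hI
  obtain ⟨𝔭, h𝔭, hI𝔭⟩ := Ideal.exists_le_maximal I hI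
  let q : PrimeSpectrum Γ(X, U.1) := ⟨𝔭, h𝔭.isPrime⟩
  have hp : U.2.fromSpec q ∈ U.1 := U.2.range_fromSpec.le ⟨q, rfl⟩
  obtain ⟨V, g', hg', hVU, hpV, w, a, hwa⟩ := hm _ hp
  obtain ⟨h, hh, hph⟩ := U.2.exists_basicOpen_le (V := V.1) ⟨_, hpV⟩ hp
  let B : X.affineOpens := ⟨X.basicOpen h, U.2.basicOpen h⟩
  have hBU : B.1 ≤ U.1 := X.basicOpen_le h
  have hgB := hg.mono (V := B) hBU
  obtain ⟨w₁, hw₁⟩ := exists_rs_comb hd hD hg' hgB hh w a
  obtain ⟨n₁, w₂, hw₂⟩ := (QCoh.smulLift_and_smulSep_of_isAffineOpen U.2 Ω' h).1 w₁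
  haveI := U.2.isLocalization_basicOpen h
  obtain ⟨⟨_, n₂, rfl⟩, hc⟩ := IsLocalization.exist_integer_multiples_of_finite (Submonoid.powers h)
    (fun k => X.presheaf.map (homOfLE hh).op (a k))
  choose c hc using hc
  have key : rs _ hBU (h ^ (n₁ + n₂) • m) = rs _ hBU (comb d hg (h ^ n₂ • w₂) (fun k => h ^ n₁ * c k)) := by
    obtain ⟨w₃, hw₃⟩ := exists_rs_comb hd hD hg hgB hBU (h ^ n₂ • w₂) (fun k => h ^ n₁ * c k)
    have hw3 : w₃ = rs Ω' hBU (h ^ n₂ • w₂) := by
      refine sub_eq_zero.1 (ι₀_injective (D := D) hd hD B.1 ?_)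
      have e : comb d hgB w₃ (fun k => X.presheaf.map (homOfLE hBU).op (h ^ n₁ * c k)) =
          comb d hgB (rs Ω' hBU (h ^ n₂ • w₂)) (fun k => X.presheaf.map (homOfLE hBU).op (h ^ n₁ * c k)) := by
        refine hw₃.symm.trans ?_
        unfold comb
        rw [show rs _ hBU (ι₀ D Ω' U.1 (h ^ n₂ • w₂) + ∑ k, (h ^ n₁ * c k) • dlog d hg k) =
          rs _ hBU (ι₀ D Ω' U.1 (h ^ n₂ • w₂)) + ∑ k, rs _ hBU ((h ^ n₁ * c k) • dlog d hg k) from
          (map_add _ _ _).trans (congrArg _ (map_sum _ _ _)), ← ap_rs]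
        refine congrArg _ (Finset.sum_congr rfl fun k _ => ?_)
        rw [rs_smul]
        refine congrArg _ ?_
        exact smul_left_injective (hg.mono hBU) k _ _ (by
          rw [← rs_smul, smul_dlog, ← ap_rs, d_rs]
          exact (smul_dlog d hgB k).symm)
      unfold comb at e
      rw [map_sub, map_zero, add_right_cancel e, sub_self]
    rw [rs_smul, ← rs_rs _ hVU hh m, hwa, hw₁, hw₃, hw3, ← comb_smul]
    refine congrArg₂ (comb d hgB) ?_ (funext fun k => ?_)
    · refine Eq.trans ?_ (rs_smul Ω' hBU _ _).symm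
      rw [map_pow, map_pow, pow_add, mul_comm, mul_smul]
      exact congrArg _ hw₂.symm
    · have hck : X.presheaf.map (homOfLE hBU).op (c k) =
          X.presheaf.map (homOfLE hBU).op (h ^ n₂) * X.presheaf.map (homOfLE hh).op (a k) :=
        (hc k).trans (Algebra.smul_def _ _)
      rw [Pi.smul_apply, smul_eq_mul, map_mul, hck, map_pow, map_pow, map_pow, pow_add, mul_assoc]
  obtain ⟨n₃, hn₃⟩ := smulSep_amb hd hg h _ ((map_sub _ _ _).trans (sub_eq_zero.2 key))
  rw [smul_sub, smul_smul, ← pow_add, sub_eq_zero] at hn₃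
  have hmem : h ^ (n₃ + (n₁ + n₂)) ∈ I := by
    show h ^ (n₃ + (n₁ + n₂)) • m ∈ N
    rw [hn₃]
    exact N.smul_mem _ ⟨_, _, rfl⟩
  have hq : q ∈ U.2.fromSpec ⁻¹ᵁ X.basicOpen h := hph
  rw [U.2.fromSpec_preimage_basicOpen] at hq
  exact hq (h𝔭.isPrime.mem_of_pow_mem _ (hI𝔭 hmem))

variable (d D) in
/-- The submodule of fractions with logarithmic poles. -/
def logSub (hd : OmegaSh.IsUniversal d) (hD : LogNCD.IsNCD D f) : QCoh.SubData (amb (outside D) Ω') where
  sec W :=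
    { carrier := {m | InLog d D W m}
      add_mem' := fun {m m'} hm hm' p hp => by
        obtain ⟨V, g, hg, hVW, hpV, w, a, h⟩ := hm p hp
        obtain ⟨V', g', hg', hV'W, hpV', w', a', h'⟩ := hm' p hp
        obtain ⟨T, t, hpT, hT, ht⟩ := exists_isEq hD p (V.1 ⊓ V'.1) ⟨hpV, hpV'⟩
        obtain ⟨z, hz⟩ := exists_rs_comb hd hD hg ht (hT.trans inf_le_left) w a
        obtain ⟨z', hz'⟩ := exists_rs_comb hd hD hg' ht (hT.trans inf_le_right) w' a'
        refine ⟨T, t, ht, hT.trans (inf_le_left.trans hVW), hpT, z + z',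
          (fun k => X.presheaf.map (homOfLE (hT.trans inf_le_left)).op (a k)) +
            fun k => X.presheaf.map (homOfLE (hT.trans inf_le_right)).op (a' k), ?_⟩
        rw [comb_add, ← hz, ← hz', ← h, ← h', rs_rs, rs_rs]
        exact map_add _ _ _
      zero_mem' := fun p hp => by
        obtain ⟨T, t, hpT, hT, ht⟩ := exists_isEq hD p W hp
        exact ⟨T, t, ht, hT, hpT, 0, 0, (map_zero _).trans (by simp [comb])⟩
      smul_mem' := fun c m hm p hp => by
        obtain ⟨V, g, hg, hVW, hpV, w, a, h⟩ := hm p hp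
        refine ⟨V, g, hg, hVW, hpV, X.presheaf.map (homOfLE hVW).op c • w,
          X.presheaf.map (homOfLE hVW).op c • a, ?_⟩
        rw [comb_smul, ← h]
        exact rs_smul _ hVW c m }
  map_mem {U V} i {s} hs p hp := by
    obtain ⟨T, g, hg, hTU, hpT, w, a, h⟩ := hs p (i.le hp)
    obtain ⟨R, t, hpR, hR, ht⟩ := exists_isEq hD p (T.1 ⊓ V) ⟨hpT, hp⟩
    obtain ⟨z, hz⟩ := exists_rs_comb hd hD hg ht (hR.trans inf_le_left) w a
    refine ⟨R, t, ht, hR.trans inf_le_right, hpR, z,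
      fun k => X.presheaf.map (homOfLE (hR.trans inf_le_left)).op (a k), ?_⟩
    rw [← hz, ← h, rs_rs]
    exact rs_rs (amb (outside D) Ω') i.le (hR.trans inf_le_right) s
  locality {U} s h p hp := by
    obtain ⟨V, i, hpV, hs⟩ := h p hp
    obtain ⟨T, g, hg, hTV, hpT, w, a, e⟩ := hs p hpV
    exact ⟨T, g, hg, hTV.trans i.le, hpT, w, a, (rs_rs _ i.le hTV s).symm.trans e⟩

/-- The residue along one component is characterised on charts. -/
def IsRes (d : OmegaSh.Der f Ω') (j : Fin r) (W : X.Opens) (m : (amb (outside D) Ω').val.obj (op W))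
    (z : (ClSub.quotMod (D j)).val.obj (op W)) : Prop :=
  ∀ (V : X.affineOpens) (g : Fin r → Γ(X, V.1)) (hg : IsEq D V g) (hVW : V.1 ≤ W) (w : Ω'.val.obj (op V.1))
    (a : Fin r → Γ(X, V.1)), rs _ hVW m = comb d hg w a → rs _ hVW z = a j • LogNCD.oneOn (D j) V.1

theorem existsUnique_isRes (hd : OmegaSh.IsUniversal d) (hD : LogNCD.IsNCD D f) (j : Fin r) (W : X.Opens)
    (m : (amb (outside D) Ω').val.obj (op W)) (hm : InLog d D W m) : ∃! z, IsRes d j W m z := by
  classical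
  choose V g hg hVW hpV w a hwa using hm
  let z : ∀ p : W, (ClSub.quotMod (D j)).val.obj (op (V p.1 p.2).1) := fun p =>
    a p.1 p.2 j • LogNCD.oneOn (D j) (V p.1 p.2).1
  have hone : ∀ {U U' : X.Opens} (h : U' ≤ U) (c : Γ(X, U)), rs (ClSub.quotMod (D j)) h (c • LogNCD.oneOn (D j) U) =
      X.presheaf.map (homOfLE h).op c • LogNCD.oneOn (D j) U' := fun {U U'} h c => by
    refine ((congrArg (rs _ h) (smul_oneOn (D j) U c)).trans (ap_rs _ h _).symm).trans ?_
    exact (smul_oneOn (D j) U' _).symm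
  have huniq : ∀ (T : X.affineOpens) (t : Fin r → Γ(X, T.1)) (ht : IsEq D T t) (p : W) (hTV : T.1 ≤ (V p.1 p.2).1)
      (u : Ω'.val.obj (op T.1)) (b : Fin r → Γ(X, T.1)),
      rs _ (hTV.trans (hVW p.1 p.2)) m = comb d ht u b → rs _ hTV (z p) = b j • LogNCD.oneOn (D j) T.1 := by
    intro T t ht p hTV u b hb
    obtain ⟨u', hu'⟩ := exists_rs_comb hd hD (hg p.1 p.2) ht hTV (w p.1 p.2) (a p.1 p.2)
    rw [hone]
    have e : comb d ht (u' - u) ((fun k => X.presheaf.map (homOfLE hTV).op (a p.1 p.2 k)) - b) = 0 := by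
      have e1 := comb_add (d := d) ht (u' - u) u ((fun k => X.presheaf.map (homOfLE hTV).op (a p.1 p.2 k)) - b) b
      rw [sub_add_cancel, sub_add_cancel, ← hu', ← hb, ← hwa p.1 p.2, rs_rs] at e1
      exact right_eq_add.1 e1
    have e2 := coeff_mem hd hD ht e j
    rw [Pi.sub_apply, sub_smul] at e2
    exact sub_eq_zero.1 e2
  have hcomp : ∀ p q : W, rs _ (inf_le_left : (V p.1 p.2).1 ⊓ (V q.1 q.2).1 ≤ _) (z p) =
      rs _ (inf_le_right : (V p.1 p.2).1 ⊓ (V q.1 q.2).1 ≤ _) (z q) := fun p q =>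
    sections_ext _ _ _ _ fun y hy => by
      obtain ⟨T, t, hyT, hT, ht⟩ := exists_isEq hD y _ hy
      refine ⟨T.1, hT, hyT, ?_⟩
      rw [rs_rs, rs_rs]
      obtain ⟨u, hu⟩ := exists_rs_comb hd hD (hg p.1 p.2) ht (hT.trans inf_le_left) (w p.1 p.2) (a p.1 p.2)
      rw [← hwa p.1 p.2, rs_rs] at hu
      rw [huniq T t ht p (hT.trans inf_le_left) u _ hu, huniq T t ht q (hT.trans inf_le_right) u _ hu]
  obtain ⟨Z, hZ, -⟩ := TopCat.Sheaf.existsUnique_gluing'
    ⟨(ClSub.quotMod (D j)).presheaf, (ClSub.quotMod (D j)).isSheaf⟩ (fun p : W => (V p.1 p.2).1) W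
    (fun p => homOfLE (hVW p.1 p.2)) (fun p hp => Opens.mem_iSup.2 ⟨⟨p, hp⟩, hpV p hp⟩)
    (fun p => (z p : Γ(ClSub.quotMod (D j), (V p.1 p.2).1))) (fun p q => hcomp p q)
  have hres : IsRes d j W m Z := fun T t ht hTW u b hb => sections_ext _ _ _ _ fun y hy => by
    obtain ⟨R, s, hyR, hR, hs⟩ := exists_isEq hD y (T.1 ⊓ (V y (hTW hy)).1) ⟨hy, hpV y (hTW hy)⟩
    refine ⟨R.1, hR.trans inf_le_left, hyR, ?_⟩
    obtain ⟨u', hu'⟩ := exists_rs_comb hd hD ht hs (hR.trans inf_le_left) u b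
    rw [← hb, rs_rs] at hu'
    have e := huniq R s hs ⟨y, hTW hy⟩ (hR.trans inf_le_right) u' _ hu'
    rw [hone, rs_rs, ← e, ← show rs _ (hVW y (hTW hy)) Z = z ⟨y, hTW hy⟩ from hZ ⟨y, hTW hy⟩, rs_rs]
  refine ⟨Z, hres, fun Z' hZ' => sections_ext _ _ _ _ fun y hy => ⟨(V y hy).1, hVW y hy, hpV y hy, ?_⟩⟩
  rw [hres _ _ (hg y hy) (hVW y hy) _ _ (hwa y hy), hZ' _ _ (hg y hy) (hVW y hy) _ _ (hwa y hy)]

theorem nonempty_logMod (hd : OmegaSh.IsUniversal d) (hD : LogNCD.IsNCD D f) :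
    Nonempty (LogNCD.LogMod d D) := by
  classical
  let P := logSub d D hd hD
  let L := P.obj
  have hι : ∀ (W : X.Opens) (w : Ω'.val.obj (op W)), InLog d D W (ι₀ D Ω' W w) := fun W w p hp => by
    obtain ⟨T, t, hpT, hT, ht⟩ := exists_isEq hD p W hp
    refine ⟨T, t, ht, hT, hpT, rs Ω' hT w, 0, ?_⟩
    rw [← ap_rs]
    simp [comb]
  let ι : Ω' ⟶ L := ⟨PresheafOfModules.homMk
    { app := fun W => AddCommGrpCat.ofHom
        (AddMonoidHom.mk' (fun w => P.lift (ι₀ D Ω' W.unop w) (hι W.unop w))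
          (fun w w' => Subtype.ext (map_add (ι₀ D Ω' W.unop) w w')))
      naturality := fun W W' e => ConcreteCategory.hom_ext _ _ fun w =>
        Subtype.ext (ap_rs (toAmb (outside D) Ω') e.unop.le w) }
    fun W c w => Subtype.ext ((ι₀ D Ω' W.unop).map_smul c w)⟩
  choose φ hφ using fun (j : Fin r) (W : X.Opens) (s : L.val.obj (op W)) =>
    (existsUnique_isRes hd hD j W (P.ι.app W s) (P.ι_app_mem s)).exists
  have huniq : ∀ j W (s : L.val.obj (op W)) z, IsRes d j W (P.ι.app W s) z → z = φ j W s := fun j W s z hz =>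
    (existsUnique_isRes hd hD j W (P.ι.app W s) (P.ι_app_mem s)).unique hz (hφ j W s)
  have hadd : ∀ j W (s s' : L.val.obj (op W)), φ j W (s + s') = φ j W s + φ j W s' := fun j W s s' => by
    refine (huniq j W _ _ fun V g hg hVW w a h => ?_).symm
    have hs : InLog d D V.1 (rs _ hVW (P.ι.app W s)) := P.map_mem (homOfLE hVW) (P.ι_app_mem s)
    obtain ⟨w₁, a₁, h₁⟩ := exists_comb_of_inLog hd hD hg _ hs
    have h₂ : rs _ hVW (P.ι.app W s') = comb d hg (w - w₁) (a - a₁) := by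
      have e := comb_add (d := d) hg (w - w₁) w₁ (a - a₁) a₁
      rw [sub_add_cancel, sub_add_cancel, ← h, ← h₁] at e
      refine add_right_cancel (b := rs _ hVW (P.ι.app W s)) ?_
      rw [← e, add_comm]
      exact (map_add _ _ _).symm.trans (congrArg _ (map_add (ap P.ι W) s s').symm)
    rw [show rs (ClSub.quotMod (D j)) hVW (φ j W s + φ j W s') = rs _ hVW (φ j W s) + rs _ hVW (φ j W s') from
      map_add _ _ _, hφ j W s V g hg hVW _ _ h₁, hφ j W s' V g hg hVW _ _ h₂, ← add_smul, Pi.sub_apply,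
      add_sub_cancel]
  have hnat : ∀ j {W W' : X.Opens} (e : W' ≤ W) (s : L.val.obj (op W)), φ j W' (rs L e s) = rs _ e (φ j W s) :=
    fun j {W W'} e s => by
      refine (huniq j W' _ _ fun V g hg hVW w a h => ?_).symm
      rw [rs_rs]
      refine hφ j W s V g hg (hVW.trans e) w a ?_
      rw [← h]
      exact (rs_rs (amb (outside D) Ω') e hVW (P.ι.app W s)).symm
  have hsmul : ∀ j (W : X.Opens) (c : Γ(X, W)) (s : L.val.obj (op W)), φ j W (c • s) = c • φ j W s :=
    fun j W c s => by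
      refine (huniq j W _ _ fun V g hg hVW w a h => ?_).symm
      have hs : InLog d D V.1 (rs _ hVW (P.ι.app W s)) := P.map_mem (homOfLE hVW) (P.ι_app_mem s)
      obtain ⟨w₁, a₁, h₁⟩ := exists_comb_of_inLog hd hD hg _ hs
      let c' := X.presheaf.map (homOfLE hVW).op c
      have h₂ : comb d hg w a = comb d hg (c' • w₁) (c' • a₁) := by
        rw [comb_smul, ← h₁, ← h]
        exact (congrArg (rs _ hVW) ((ap P.ι W).map_smul c s)).trans (rs_smul _ hVW c _)
      have h₃ : comb d hg (w - c' • w₁) (a - c' • a₁) = 0 := by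
        have e := comb_add (d := d) hg (w - c' • w₁) (c' • w₁) (a - c' • a₁) (c' • a₁)
        rw [sub_add_cancel, sub_add_cancel, ← h₂] at e
        exact right_eq_add.1 e
      have h₄ := coeff_mem hd hD hg h₃ j
      rw [Pi.sub_apply, sub_smul, sub_eq_zero] at h₄
      rw [rs_smul, hφ j W s V g hg hVW _ _ h₁, h₄, Pi.smul_apply, smul_eq_mul, mul_smul]
  let res : ∀ j, L ⟶ ClSub.quotMod (D j) := fun j => ⟨PresheafOfModules.homMk
    { app := fun W => AddCommGrpCat.ofHom (AddMonoidHom.mk' (φ j W.unop) (hadd j W.unop))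
      naturality := fun W W' e => ConcreteCategory.hom_ext _ _ fun s => hnat j e.unop.le s }
    fun W c s => hsmul j W.unop c s⟩
  have hres : ∀ (U : X.affineOpens) (g : Fin r → Γ(X, U.1)) (hg : IsEq D U g) (j : Fin r) (s : L.val.obj (op U.1))
      (w : Ω'.val.obj (op U.1)) (a : Fin r → Γ(X, U.1)), P.ι.app U.1 s = comb d hg w a →
      φ j U.1 s = a j • LogNCD.oneOn (D j) U.1 := fun U g hg j s w a h => by
    have e := hφ j U.1 s U g hg le_rfl w a
    have hid : ∀ (M : X.Modules) (x : M.val.obj (op U.1)), rs M le_rfl x = x := fun M x =>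
      ConcreteCategory.congr_hom (M.presheaf.map_id (op U.1)) x
    rw [hid, hid] at e
    exact e h
  refine ⟨⟨L, ι, res, ?_, fun j => ?_, fun U g hg => ⟨fun x hx => ?_, ?_⟩⟩⟩
  · refine ⟨fun {Z} a b hab => Scheme.Modules.hom_ext _ _ fun W => ConcreteCategory.hom_ext _ _ fun x => ?_⟩
    exact ι₀_injective (D := D) hd hD W (congrArg (fun k => P.ι.app W (Scheme.Modules.Hom.app k W x)) hab)
  · refine Scheme.Modules.hom_ext _ _ fun W => ConcreteCategory.hom_ext _ _ fun w => ?_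
    refine (huniq j W _ 0 fun V g hg hVW u a h => ?_).symm
    have h' : comb d hg (u - rs Ω' hVW w) a = 0 := by
      have e : rs _ hVW (ι₀ D Ω' W w) = comb d hg u a := h
      rw [← ap_rs] at e
      simp only [comb, map_sub] at e ⊢
      rw [e]; abel
    rw [coeff_mem hd hD hg h' j]
    exact map_zero _
  · refine Subtype.ext (smul_prod_injective hg _ 0 ?_)
    rw [smul_zero]
    exact ((ap P.ι U.1).map_smul _ x).symm.trans ((congrArg (ap P.ι U.1) hx).trans (map_zero _))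
  · have hdl : ∀ k, InLog d D U.1 (dlog d hg k) := fun k p hp =>
      ⟨U, g, hg, le_rfl, hp, 0, Pi.single k 1, by
        refine (ConcreteCategory.congr_hom ((amb (outside D) Ω').presheaf.map_id (op U.1)) _).trans ?_
        simp [comb, Pi.single_apply]⟩
    let dl : Fin r → L.val.obj (op U.1) := fun k => P.lift (dlog d hg k) (hdl k)
    refine ⟨dl, fun k => Subtype.ext (smul_dlog d hg k), ?_, fun k => ?_,
      fun k l hkl => ?_⟩
    · refine eq_top_iff.2 fun s _ => ?_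
      obtain ⟨w, a, h⟩ := exists_comb_of_inLog hd hD hg _ (P.ι_app_mem s)
      have e : s = ap ι U.1 w + ∑ k, a k • dl k := by
        refine P.ι_app_injective U.1 (h.trans ?_)
        refine Eq.trans ?_ (map_add (ap P.ι U.1) _ _).symm
        rw [map_sum]
        refine congrArg₂ (· + ·) rfl (Finset.sum_congr rfl fun k _ => ?_)
        exact ((ap P.ι U.1).map_smul (a k) (dl k)).symm
      rw [e]
      exact Submodule.add_mem _ (Submodule.subset_span (Or.inl ⟨w, rfl⟩))
        (Submodule.sum_mem _ fun k _ => Submodule.smul_mem _ _ (Submodule.subset_span (Or.inr ⟨k, rfl⟩)))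
    · refine (hres U g hg k _ 0 (Pi.single k 1) ?_).trans ?_
      · simp [comb, Pi.single_apply]; rfl
      · rw [Pi.single_eq_same, one_smul]
    · refine (hres U g hg l _ 0 (Pi.single k 1) ?_).trans ?_
      · simp [comb, Pi.single_apply]; rfl
      · rw [Pi.single_eq_of_ne (Ne.symm hkl), zero_smul]

end GrothLib.LogSeq1
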