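import Groth.Agent.Lib.LogSeq1.Free
import Groth.Agent.Lib.OmegaUniv.Stalk
import Groth.Agent.Lib.NcdLift26.Geom

/-!
# Differentials of étale coordinates form a frame
-/

set_option autoImplicit false
universe u

open CategoryTheory CategoryTheory.Limits AlgebraicGeometry Opposite TopologicalSpace
open GrothLib.FinCov (IsFrame)
open scoped TensorProduct

noncomputable section

namespace GrothLib.LogSeq1

/-- Differentials of étale coordinates in a local ring, over a localization of the base. -/
theorem bijective_sum_D {R B T C : Type u} [CommRing R] [CommRing B] [CommRing T] [CommRing C]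
    [Algebra R B] [Algebra R T] [Algebra T C] [Algebra R C] [Algebra B C] [IsScalarTower R T C]
    [IsScalarTower R B C] [Algebra.FormallyEtale R T] [Algebra.FormallyEtale B C]
    {σ : Type u} [Fintype σ] (x : σ → B)
    (hx : (MvPolynomial.aeval x : MvPolynomial σ R →ₐ[R] B).toRingHom.Etale) :
    Function.Bijective fun c : σ → C => ∑ j, c j • KaehlerDifferential.D T C (algebraMap B C (x j)) := by
  classical
  let φ : MvPolynomial σ R →ₐ[R] B := MvPolynomial.aeval x
  letI : Algebra (MvPolynomial σ R) B := φ.toRingHom.toAlgebra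
  haveI : Algebra.Etale (MvPolynomial σ R) B := hx
  letI : Algebra (MvPolynomial σ R) C := ((algebraMap B C).comp φ.toRingHom).toAlgebra
  haveI : IsScalarTower (MvPolynomial σ R) B C := IsScalarTower.of_algebraMap_eq' rfl
  haveI : IsScalarTower R (MvPolynomial σ R) C := IsScalarTower.of_algebraMap_eq fun a => by
    show algebraMap R C a = algebraMap B C (φ (algebraMap R _ a))
    rw [AlgHom.commutes, ← IsScalarTower.algebraMap_apply]
  haveI : Algebra.FormallyEtale (MvPolynomial σ R) C := Algebra.FormallyEtale.comp _ B C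
  let b := ((KaehlerDifferential.mvPolynomialBasis R σ).baseChange C).map
    (KaehlerDifferential.tensorKaehlerEquivOfFormallyEtale R (MvPolynomial σ R) C)
  have hb : ∀ j, b j = KaehlerDifferential.D R C (algebraMap B C (x j)) := fun j => by
    simp only [b, Module.Basis.map_apply, Module.Basis.baseChange_apply, KaehlerDifferential.mvPolynomialBasis_apply]
    rw [KaehlerDifferential.tensorKaehlerEquivOfFormallyEtale_apply, KaehlerDifferential.mapBaseChange_tmul,
      one_smul, KaehlerDifferential.map_D]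
    exact congrArg (fun a => KaehlerDifferential.D R C (algebraMap B C a)) (MvPolynomial.aeval_X x j)
  have hbij : Function.Bijective (KaehlerDifferential.map R T C C) := by
    refine ⟨(injective_iff_map_eq_zero _).2 fun z hz => ?_, ?_⟩
    · obtain ⟨w, rfl⟩ := (KaehlerDifferential.exact_mapBaseChange_map R T C z).1 hz
      rw [Subsingleton.elim w 0, map_zero]
    · exact KaehlerDifferential.map_surjective R T C
  have h : (fun c : σ → C => ∑ j, c j • KaehlerDifferential.D T C (algebraMap B C (x j))) =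
      fun c => KaehlerDifferential.map R T C C (b.equivFun.symm c) := funext fun c => by
    rw [Module.Basis.equivFun_symm_apply, map_sum]
    refine Finset.sum_congr rfl fun j _ => ?_
    rw [map_smul, hb, KaehlerDifferential.map_D]
    rfl
  rw [h]
  exact hbij.comp b.equivFun.symm.bijective

variable {X S : Scheme.{u}} {f : X ⟶ S} {Ω' : X.Modules} {d : OmegaSh.Der f Ω'}

theorem isFrame_d (hd : OmegaSh.IsUniversal d) (W : X.Opens) {n : ℕ} (v : ULift.{u} (Fin n) → Γ(W, ⊤))
    [Etale (AffineSpace.homOfVector (W.ι ≫ f) v)] {V : S.Opens} (hV : IsAffineOpen V) (U : X.affineOpens)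
    (hUW : U.1 ≤ W) (hUV : U.1 ≤ f ⁻¹ᵁ V) :
    IsFrame Ω' U.1 fun j : Fin n => d.app U.1 (LogNCD.sectOn W hUW (v (ULift.up j))) := by
  have het := NcdLift26.etale_aeval f W v hV U.2 hUW hUV
  refine Euler.isFrame_of_stalk_basis fun y hy => ?_
  letI : Algebra Γ(S, V) Γ(X, U.1) := (f.appLE V U.1 hUV).hom.toAlgebra
  letI : Algebra Γ(S, V) (S.presheaf.stalk (f y)) := (S.presheaf.germ V (f y) (hUV hy)).hom.toAlgebra
  letI : Algebra (S.presheaf.stalk (f y)) (X.presheaf.stalk y) := OmegaUniv.stalkAlg f y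
  letI : Algebra Γ(X, U.1) (X.presheaf.stalk y) := (X.presheaf.germ U.1 y hy).hom.toAlgebra
  letI : Algebra Γ(S, V) (X.presheaf.stalk y) :=
    ((f.stalkMap y).hom.comp (S.presheaf.germ V (f y) (hUV hy)).hom).toAlgebra
  haveI : IsScalarTower Γ(S, V) (S.presheaf.stalk (f y)) (X.presheaf.stalk y) :=
    IsScalarTower.of_algebraMap_eq' rfl
  haveI : IsScalarTower Γ(S, V) Γ(X, U.1) (X.presheaf.stalk y) := IsScalarTower.of_algebraMap_eq fun a => by
    show (f.stalkMap y) (S.presheaf.germ V (f y) (hUV hy) a) = X.presheaf.germ U.1 y hy (f.appLE V U.1 hUV a)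
    exact ((Scheme.Hom.germ_stalkMap_apply f V y (hUV hy) a).trans
      (X.presheaf.germ_res_apply (homOfLE hUV) y hy _).symm :)
  haveI : Algebra.FormallyEtale Γ(S, V) (S.presheaf.stalk (f y)) :=
    haveI := hV.isLocalization_stalk ⟨f y, hUV hy⟩
    Algebra.FormallyEtale.of_isLocalization (hV.primeIdealOf ⟨f y, hUV hy⟩).asIdeal.primeCompl
  haveI : Algebra.FormallyEtale Γ(X, U.1) (X.presheaf.stalk y) :=
    haveI := U.2.isLocalization_stalk ⟨y, hy⟩
    Algebra.FormallyEtale.of_isLocalization (U.2.primeIdealOf ⟨y, hy⟩).asIdeal.primeCompl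
  have h := bijective_sum_D (T := S.presheaf.stalk (f y)) (C := X.presheaf.stalk y)
    (fun j : ULift.{u} (Fin n) => LogNCD.sectOn W hUW (v j)) het
  let ε := OmegaUniv.stalkEquiv y hd
  have hε : ∀ c : Fin n → X.presheaf.stalk y,
      ε (∑ i, c i • Ω'.presheaf.germ U.1 y hy (d.app U.1 (LogNCD.sectOn W hUW (v (ULift.up i))))) =
        ∑ j : ULift.{u} (Fin n), c j.down • KaehlerDifferential.D (S.presheaf.stalk (f y)) (X.presheaf.stalk y)
          (algebraMap Γ(X, U.1) (X.presheaf.stalk y) (LogNCD.sectOn W hUW (v j))) := fun c => by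
    rw [← Equiv.sum_comp Equiv.ulift.symm]
    refine (map_sum ε _ _).trans (Finset.sum_congr rfl fun i _ => ?_)
    refine (map_smul ε _ _).trans ?_
    exact congrArg (c i • ·) (OmegaUniv.stalkEquiv_dg y hd U.1 hy _)
  refine (Function.Bijective.of_comp_iff' ε.bijective _).1 ?_
  refine Eq.subst (motive := Function.Bijective) ?_ (h.comp (Equiv.arrowCongr Equiv.ulift.symm (Equiv.refl _)).bijective)
  exact funext fun c => (hε c).symm

theorem coord_mem_nonZeroDivisors (f : X ⟶ S) (W : X.Opens) {σ : Type u} (v : σ → Γ(W, ⊤))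
    [Etale (AffineSpace.homOfVector (W.ι ≫ f) v)] {V : S.Opens} (hV : IsAffineOpen V) (U : X.affineOpens)
    (hUW : U.1 ≤ W) (hUV : U.1 ≤ f ⁻¹ᵁ V) (e : σ) :
    LogNCD.sectOn W hUW (v e) ∈ nonZeroDivisors Γ(X, U.1) := by
  letI : Algebra Γ(S, V) Γ(X, U.1) := (f.appLE V U.1 hUV).hom.toAlgebra
  exact (NcdLift26.regular_flat_of_etale _ (NcdLift26.etale_aeval f W v hV U.2 hUW hUV) e).1

end GrothLib.LogSeq1
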