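import Groth.Agent.Lib.LogSeq1.Coord
import Groth.Agent.Lib.SmDim4.Omega
import Groth.Agent.Lib.QCoh.Sub

/-!
# Fractions with logarithmic poles: algebra on principal charts
-/

set_option autoImplicit false
universe u

open CategoryTheory CategoryTheory.Limits AlgebraicGeometry Opposite TopologicalSpace
open GrothLib.FinCov (IsFrame)

noncomputable section

namespace GrothLib.LogSeq1

variable {X S : Scheme.{u}}

/-- The pushforward of the restriction to an open. -/
def amb (O : X.Opens) (N : X.Modules) : X.Modules := (Scheme.Modules.pushforward O.ι).obj (N.restrict O.ι)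

/-- The restriction map to `amb`. -/
def toAmb (O : X.Opens) (N : X.Modules) : N ⟶ amb O N := (Scheme.Modules.restrictAdjunction O.ι).unit.app N

/-- The part of an open inside `O`. -/
abbrev oW (O W : X.Opens) : X.Opens := O.ι ''ᵁ (O.ι ⁻¹ᵁ W)

theorem oW_le (O W : X.Opens) : oW O W ≤ W := by
  rintro x ⟨y, hy, rfl⟩
  exact hy

theorem mem_oW {O W : X.Opens} {x : X} : x ∈ oW O W ↔ x ∈ O ∧ x ∈ W := by
  constructor
  · rintro ⟨y, hy, rfl⟩; exact ⟨y.2, hy⟩
  · rintro ⟨h1, h2⟩; exact ⟨⟨x, h1⟩, h2, rfl⟩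

theorem amb_smul (O : X.Opens) (N : X.Modules) (W : X.Opens) (a : Γ(X, W)) (m : (amb O N).val.obj (op W)) :
    (a • m : (amb O N).val.obj (op W)) = ((X.presheaf.map (homOfLE (oW_le O W)).op a) •
      (show N.val.obj (op (oW O W)) from m) : N.val.obj (op (oW O W))) := by
  show (O.ι.appIso (O.ι ⁻¹ᵁ W)).inv (O.ι.app W a) • (show N.val.obj (op (oW O W)) from m) = _
  rw [Scheme.Opens.ι_appIso, Scheme.Opens.ι_app]
  rfl

theorem toAmb_app (O : X.Opens) (N : X.Modules) (W : X.Opens) (m : N.val.obj (op W)) :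
    ap (toAmb O N) W m = (rs N (oW_le O W) m : N.val.obj (op (oW O W))) := rfl

/-- The complement of the supports of a family of ideals. -/
def outside {r : ℕ} (D : Fin r → X.IdealSheafData) : X.Opens :=
  ⟨⋂ i, ((D i).support : Set X)ᶜ, isOpen_iInter_of_finite fun i => (D i).support.isClosed.isOpen_compl⟩

theorem mem_outside {r : ℕ} {D : Fin r → X.IdealSheafData} {x : X} :
    x ∈ outside D ↔ ∀ i, x ∉ (D i).support := Set.mem_iInter

theorem oW_outside {r : ℕ} {D : Fin r → X.IdealSheafData} {U : X.affineOpens} {g : Fin r → Γ(X, U.1)}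
    (hg : IsEq D U g) : oW (outside D) U.1 = X.basicOpen (∏ k, g k) := by
  ext x
  simp only [SetLike.mem_coe, mem_oW, mem_outside]
  have key : ∀ k, x ∈ U.1 → (x ∉ (D k).support ↔ x ∈ X.basicOpen (g k)) := fun k hx => by
    have h1 : x ∈ (D k).support ↔ x ∈ X.zeroLocus (U := U.1) ((D k).ideal U : Set Γ(X, U.1)) := by
      have h := Set.ext_iff.1 ((D k).coe_support_inter U) x
      exact ⟨fun hs => (h.1 ⟨hs, hx⟩).1, fun hz => (h.2 ⟨hz, hx⟩).1⟩
    rw [h1, hg k, Scheme.zeroLocus_span, Scheme.zeroLocus_singleton, Set.mem_compl_iff, not_not]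
    rfl
  constructor
  · rintro ⟨h1, hx⟩
    rw [Scheme.mem_basicOpen _ _ _ hx, map_prod, IsUnit.prod_univ_iff]
    exact fun k => (Scheme.mem_basicOpen _ _ _ hx).1 ((key k hx).1 (h1 k))
  · intro h
    have hx : x ∈ U.1 := X.basicOpen_le _ h
    refine ⟨fun k => (key k hx).2 ?_, hx⟩
    rw [Scheme.mem_basicOpen _ _ _ hx] at h ⊢
    rw [map_prod, IsUnit.prod_univ_iff] at h
    exact h k

variable {f : X ⟶ S} {Ω' : X.Modules} {d : OmegaSh.Der f Ω'} {r : ℕ} {D : Fin r → X.IdealSheafData}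

theorem isUnit_res_eq {U : X.affineOpens} {g : Fin r → Γ(X, U.1)} (hg : IsEq D U g) (k : Fin r) :
    IsUnit (X.presheaf.map (homOfLE (oW_le (outside D) U.1)).op (g k)) := by
  have hle : oW (outside D) U.1 ≤ X.basicOpen (∏ l, g l) := (oW_outside hg).le
  have h := X.toRingedSpace.isUnit_res_basicOpen (∏ l, g l)
  rw [map_prod, IsUnit.prod_univ_iff] at h
  have h2 := (h k).map (X.presheaf.map (homOfLE hle).op).hom
  convert h2 using 1
  exact ConcreteCategory.congr_hom (X.presheaf.map_comp (homOfLE (X.basicOpen_le (∏ l, g l))).op (homOfLE hle).op) (g k)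

theorem amb_cancel (O : X.Opens) (N : X.Modules) (W : X.Opens) (a : Γ(X, W))
    (ha : IsUnit (X.presheaf.map (homOfLE (oW_le O W)).op a)) (m m' : (amb O N).val.obj (op W))
    (h : a • m = a • m') : m = m' := by
  have key : ∀ z z' : N.val.obj (op (oW O W)),
      (X.presheaf.map (homOfLE (oW_le O W)).op a) • z = (X.presheaf.map (homOfLE (oW_le O W)).op a) • z' → z = z' :=
    fun z z' e => ha.smul_left_cancel.1 e
  exact key m m' ((amb_smul O N W a m).symm.trans (h.trans (amb_smul O N W a m')))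

theorem smul_left_injective {U : X.affineOpens} {g : Fin r → Γ(X, U.1)} (hg : IsEq D U g) (k : Fin r)
    (m m' : (amb (outside D) Ω').val.obj (op U.1)) (h : g k • m = g k • m') : m = m' :=
  amb_cancel _ _ _ _ (isUnit_res_eq hg k) m m' h

theorem smul_prod_injective {U : X.affineOpens} {g : Fin r → Γ(X, U.1)} (hg : IsEq D U g)
    (m m' : (amb (outside D) Ω').val.obj (op U.1)) (h : (∏ k, g k) • m = (∏ k, g k) • m') : m = m' := by
  refine amb_cancel _ _ _ _ ?_ m m' h
  rw [map_prod, IsUnit.prod_univ_iff]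
  exact fun k => isUnit_res_eq hg k

theorem exists_dlog (d : OmegaSh.Der f Ω') {U : X.affineOpens} {g : Fin r → Γ(X, U.1)} (hg : IsEq D U g)
    (k : Fin r) : ∃ l : (amb (outside D) Ω').val.obj (op U.1),
      g k • l = ap (toAmb (outside D) Ω') U.1 (d.app U.1 (g k)) := by
  obtain ⟨v, hv⟩ := isUnit_res_eq hg k
  let z : Ω'.val.obj (op (oW (outside D) U.1)) := rs Ω' (oW_le _ _) (d.app U.1 (g k))
  refine ⟨(show (amb (outside D) Ω').val.obj (op U.1) from ((v⁻¹ : Units _) : Γ(X, oW (outside D) U.1)) • z), ?_⟩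
  refine (amb_smul (outside D) Ω' U.1 (g k) _).trans ?_
  refine Eq.trans ?_ (toAmb_app (outside D) Ω' U.1 _).symm
  rw [← hv]
  exact (smul_smul (v : Γ(X, oW (outside D) U.1)) _ z).trans (by rw [Units.mul_inv, one_smul])

/-- The logarithmic differential of an equation. -/
def dlog (d : OmegaSh.Der f Ω') {U : X.affineOpens} {g : Fin r → Γ(X, U.1)} (hg : IsEq D U g) (k : Fin r) :
    (amb (outside D) Ω').val.obj (op U.1) := (exists_dlog d hg k).choose

theorem smul_dlog (d : OmegaSh.Der f Ω') {U : X.affineOpens} {g : Fin r → Γ(X, U.1)} (hg : IsEq D U g)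
    (k : Fin r) : g k • dlog d hg k = ap (toAmb (outside D) Ω') U.1 (d.app U.1 (g k)) :=
  (exists_dlog d hg k).choose_spec

/-- A chart: equations among coordinates whose differentials form a frame. -/
theorem exists_chart [Smooth f] (hd : OmegaSh.IsUniversal d) (hD : LogNCD.IsNCD D f) (x : X) (N : X.Opens)
    (hxN : x ∈ N) :
    ∃ (U : X.affineOpens) (g : Fin r → Γ(X, U.1)) (m : ℕ) (ω : Fin m → Ω'.val.obj (op U.1))
      (σ : Fin m → Option (Fin r)), x ∈ U.1 ∧ U.1 ≤ N ∧ IsEq D U g ∧ IsFrame Ω' U.1 ω ∧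
        (∀ j k, σ j = some k → ω j = d.app U.1 (g k)) ∧
        (∀ j j' k, σ j = some k → σ j' = some k → j = j') ∧
        (∀ k, (∃ j, σ j = some k) ∨ g k = 1) ∧
        ∀ (k : Fin r) (V : X.affineOpens) (hV : V.1 ≤ U.1),
          X.presheaf.map (homOfLE hV).op (g k) ∈ nonZeroDivisors Γ(X, V.1) := by
  classical
  by_cases hT : Nonempty (LogNCD.Through D x)
  · obtain ⟨W, hxW, m, v, e, he, het, h1, h2⟩ := hD x hT
    obtain ⟨V, hV, hxV, -⟩ := exists_isAffineOpen_mem_and_subset (x := f.base x) (U := ⊤) trivial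
    obtain ⟨U, hU, hxU, hUle⟩ := exists_isAffineOpen_mem_and_subset (x := x) (U := W ⊓ f ⁻¹ᵁ V ⊓ N)
      ⟨⟨hxW, hxV⟩, hxN⟩
    have hUW : U ≤ W := hUle.trans (inf_le_left.trans inf_le_left)
    have hUV : U ≤ f ⁻¹ᵁ V := hUle.trans (inf_le_left.trans inf_le_right)
    let g : Fin r → Γ(X, U) := fun i =>
      if h : x ∈ (D i).support then LogNCD.sectOn W hUW (v (ULift.up (e ⟨i, h⟩))) else 1
    let σ : Fin m → Option (Fin r) := fun j => if h : ∃ i, e i = j then some h.choose.1 else none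
    have hσ : ∀ j k, σ j = some k → ∃ hk : x ∈ (D k).support, e ⟨k, hk⟩ = j := fun j k h => by
      simp only [σ] at h
      split at h
      · rename_i hh
        obtain rfl := Option.some.inj h
        exact ⟨hh.choose.2, hh.choose_spec⟩
      · exact absurd h (by simp)
    refine ⟨⟨U, hU⟩, g, m, _, σ, hxU, hUle.trans inf_le_right, fun i => ?_,
      isFrame_d hd W v hV ⟨U, hU⟩ hUW hUV, fun j k h => ?_, fun j j' k h h' => ?_, fun k => ?_, fun k V' hV' => ?_⟩
    · by_cases h : x ∈ (D i).support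
      · simp only [g, dif_pos h]; exact h1 ⟨i, h⟩ ⟨U, hU⟩ hUW
      · simp only [g, dif_neg h, Ideal.span_singleton_one]; exact h2 i h ⟨U, hU⟩ hUW
    · obtain ⟨hk, rfl⟩ := hσ j k h
      simp only [g, dif_pos hk]
      all_goals rfl
    · obtain ⟨hk, rfl⟩ := hσ j k h
      obtain ⟨hk', rfl⟩ := hσ j' k h'
      rfl
    · by_cases h : x ∈ (D k).support
      · refine Or.inl ⟨e ⟨k, h⟩, ?_⟩
        have hh : ∃ i, e i = e ⟨k, h⟩ := ⟨_, rfl⟩
        simp only [σ, dif_pos hh]
        exact congrArg some (congrArg Subtype.val (he hh.choose_spec))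
      · exact Or.inr (by simp only [g, dif_neg h])
    · by_cases h : x ∈ (D k).support
      · simp only [g, dif_pos h]
        have e1 : X.presheaf.map (homOfLE hV').op (LogNCD.sectOn W hUW (v (ULift.up (e ⟨k, h⟩)))) =
            LogNCD.sectOn W (hV'.trans hUW) (v (ULift.up (e ⟨k, h⟩))) :=
          (ConcreteCategory.congr_hom (X.presheaf.map_comp (homOfLE hUW).op (homOfLE hV').op) _).symm
        rw [e1]
        exact coord_mem_nonZeroDivisors f W v hV V' (hV'.trans hUW) (hV'.trans hUV) _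
      · simp only [g, dif_neg h, map_one]; exact one_mem _
  · obtain ⟨U₁, m, hxU₁, ⟨φ⟩, -⟩ := SmDim4.exists_free_nhd f hd x
    obtain ⟨ω₁, hω₁⟩ := FinCov.exists_frame_of_iso φ
    have hout : ∀ i, x ∉ (D i).support := fun i hi => hT ⟨⟨i, hi⟩⟩
    obtain ⟨U, hU, hxU, hUle⟩ := exists_isAffineOpen_mem_and_subset (x := x)
      (U := U₁.ι ''ᵁ ⊤ ⊓ outside D ⊓ N)
      ⟨⟨by rw [Scheme.Opens.ι_image_top]; exact hxU₁, mem_outside.2 hout⟩, hxN⟩
    have hle : U ≤ U₁.ι ''ᵁ ⊤ := hUle.trans (inf_le_left.trans inf_le_left)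
    refine ⟨⟨U, hU⟩, fun _ => 1, m, fun j => rs Ω' hle (ω₁ j), fun _ => none, hxU, hUle.trans inf_le_right,
      fun i => ?_, fun V hV => ?_, fun j k h => absurd h (by simp), fun j j' k h => absurd h (by simp),
      fun k => Or.inr rfl, fun k V' hV' => by rw [map_one]; exact one_mem _⟩
    · rw [Ideal.span_singleton_one]
      exact CycNorm12.ideal_eq_top_of_disjoint (D i) ⟨U, hU⟩
        (Set.disjoint_left.2 fun y hy => mem_outside.1 (hUle hy).1.2 i)
    · convert hω₁ V (hV.trans hle) using 4 with c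
      rename_i j _
      exact rs_rs Ω' hle hV (ω₁ j)

end GrothLib.LogSeq1
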