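import Groth.Agent.Lib.LogSeq1.Incl
import Groth.Agent.Lib.Euler.LocFree
import Groth.Agent.Lib.FinCov.FrameFree

/-!
# Frames of logarithmic modules from frames of differentials
-/

set_option autoImplicit false
universe u

open CategoryTheory CategoryTheory.Limits AlgebraicGeometry Opposite TopologicalSpace
open GrothLib.FinCov (IsFrame)

noncomputable section

namespace GrothLib.LogSeq1

variable {X S : Scheme.{u}}

/-- Being a frame may be checked on affine opens. -/
theorem isFrame_of_affine {M : X.Modules} {U : X.Opens} {n : ℕ} (e : Fin n → M.val.obj (op U))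
    (h : ∀ (V : X.affineOpens) (hV : V.1 ≤ U),
      Function.Bijective fun c : Fin n → Γ(X, V.1) => ∑ i, c i • rs M hV (e i)) :
    IsFrame M U e := by
  refine Euler.isFrame_of_stalk_basis fun y hy => ⟨fun a b hab => ?_, fun s => ?_⟩
  · choose W hW r hr using fun i => TopCat.Presheaf.exists_germ_eq X.presheaf (a i - b i)
    obtain ⟨V, hV, hyV, hVle⟩ := Opens.isBasis_iff_nbhd.1 X.isBasis_affineOpens
      (show y ∈ (⟨(U : Set X) ∩ ⋂ i, (W i : Set X), U.isOpen.inter (isOpen_iInter_of_finite fun i => (W i).isOpen)⟩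
        : X.Opens) from ⟨hy, Set.mem_iInter.2 hW⟩)
    have hVU : V ≤ U := fun z hz => (hVle hz).1
    have hVW : ∀ i, V ≤ W i := fun i z hz => Set.mem_iInter.1 (hVle hz).2 i
    let c : Fin n → Γ(X, V) := fun i => X.presheaf.map (homOfLE (hVW i)).op (r i)
    have hc : ∀ i, X.presheaf.germ V y hyV (c i) = a i - b i := fun i =>
      (X.presheaf.germ_res_apply _ _ _ _).trans (hr i)
    have h0 : M.presheaf.germ V y hyV (∑ i, c i • rs M hVU (e i)) = 0 := by
      refine (Euler.germ_sum_smul hyV c fun i => rs M hVU (e i)).trans ?_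
      refine Eq.trans (Finset.sum_congr rfl fun i _ => ?_)
        ((Finset.sum_sub_distrib _ _).trans (sub_eq_zero.2 hab))
      rw [hc, sub_smul]
      exact congrArg₂ (fun p q => a i • p - b i • q) (TopCat.Presheaf.germ_res_apply M.presheaf _ _ _ _)
        (TopCat.Presheaf.germ_res_apply M.presheaf _ _ _ _)
    obtain ⟨T, hyT, i₁, i₂, hT⟩ := TopCat.Presheaf.germ_eq M.presheaf y hyV hyV _ 0 (h0.trans (map_zero _).symm)
    obtain ⟨V', hV', hyV', hV'T⟩ := Opens.isBasis_iff_nbhd.1 X.isBasis_affineOpens hyT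
    have hV'V : V' ≤ V := hV'T.trans i₁.le
    have hz : ∑ i, X.presheaf.map (homOfLE hV'V).op (c i) • rs M (hV'V.trans hVU) (e i) = 0 := by
      have h1 : rs M hV'T (M.presheaf.map i₁.op (∑ i, c i • rs M hVU (e i))) = 0 :=
        (congrArg (rs M hV'T) (hT.trans (map_zero _))).trans (map_zero _)
      refine Eq.trans ?_ h1
      refine Eq.trans ?_ (rs_rs M i₁.le hV'T _).symm
      refine Eq.trans ?_ (map_sum (M.val.map (homOfLE (hV'T.trans i₁.le)).op).hom _ _).symm
      exact Finset.sum_congr rfl fun i _ => ((rs_smul M hV'V _ _).trans (congrArg _ (rs_rs M hVU hV'V _))).symm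
    have hci : (fun i => X.presheaf.map (homOfLE hV'V).op (c i)) = 0 :=
      (h ⟨V', hV'⟩ (hV'V.trans hVU)).1 (hz.trans (by simp))
    funext i
    refine sub_eq_zero.1 ?_
    rw [← hc i, ← X.presheaf.germ_res_apply (homOfLE hV'V) y hyV', show X.presheaf.map (homOfLE hV'V).op (c i) = 0
      from congrFun hci i, map_zero]
  · obtain ⟨W, hyW, t, rfl⟩ := TopCat.Presheaf.exists_germ_eq M.presheaf s
    obtain ⟨V, hV, hyV, hVle⟩ := Opens.isBasis_iff_nbhd.1 X.isBasis_affineOpens
      (show y ∈ (U ⊓ W : X.Opens) from ⟨hy, hyW⟩)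
    have hVU : V ≤ U := hVle.trans inf_le_left
    obtain ⟨c, hc⟩ := (h ⟨V, hV⟩ hVU).2 (rs M (hVle.trans inf_le_right) t)
    refine ⟨fun i => X.presheaf.germ V y hyV (c i), ?_⟩
    refine Eq.trans (Finset.sum_congr rfl fun i _ => ?_) (((Euler.germ_sum_smul hyV c
      fun i => rs M hVU (e i)).symm.trans (congrArg (M.presheaf.germ V y hyV) hc)).trans
        (TopCat.Presheaf.germ_res_apply M.presheaf _ _ _ _))
    exact congrArg _ (TopCat.Presheaf.germ_res_apply M.presheaf _ _ _ _).symm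

variable {f : X ⟶ S} {Ω' : X.Modules} {d : OmegaSh.Der f Ω'} {r n : ℕ} {D : Fin r → X.IdealSheafData}

theorem d_rs (d : OmegaSh.Der f Ω') {U V : X.Opens} (h : V ≤ U) (a : Γ(X, U)) :
    rs Ω' h (d.app U a) = d.app V (X.presheaf.map (homOfLE h).op a) :=
  (d.d_map (homOfLE h).op a).symm

/-- The logarithmic module has a frame made of logarithmic and ordinary differentials of coordinates. -/
theorem exists_frame (Λ : LogNCD.LogMod d D) (U : X.affineOpens) (g : Fin r → Γ(X, U.1)) (hg : IsEq D U g)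
    (ω : Fin n → Ω'.val.obj (op U.1)) (hω : IsFrame Ω' U.1 ω) (σ : Fin n → Option (Fin r))
    (hσ : ∀ j k, σ j = some k → ω j = d.app U.1 (g k))
    (hinj : ∀ j j' k, σ j = some k → σ j' = some k → j = j')
    (hcov : ∀ k, (∃ j, σ j = some k) ∨ IsUnit (g k))
    (hnzd : ∀ (k : Fin r) (V : X.affineOpens) (hV : V.1 ≤ U.1),
      X.presheaf.map (homOfLE hV).op (g k) ∈ nonZeroDivisors Γ(X, V.1)) :
    ∃ E : Fin n → Λ.L.val.obj (op U.1), IsFrame Λ.L U.1 E := by
  classical
  obtain ⟨dl, h1, -, -⟩ := exists_repr Λ U g hg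
  let E : Fin n → Λ.L.val.obj (op U.1) := fun j => (σ j).elim (ap Λ.ι U.1 (ω j)) dl
  let m : Fin n → Γ(X, U.1) := fun j => (σ j).elim 1 g
  have hm : ∀ j, m j • E j = ap Λ.ι U.1 (ω j) := fun j => by
    rcases hj : σ j with _ | k
    · simp [m, E, hj]
    · simp only [m, E, hj, Option.elim_some]
      rw [h1 k, hσ j k hj]
  refine ⟨E, isFrame_of_affine E fun V hV => ?_⟩
  let res := X.presheaf.map (homOfLE hV).op
  have hgV : IsEq D V fun k => res (g k) := hg.mono hV
  have hmV : ∀ j, res (m j) • rs Λ.L hV (E j) = ap Λ.ι V.1 (rs Ω' hV (ω j)) := fun j => by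
    rw [← rs_smul, hm, ap_rs]
  have hP : (∏ k, res (g k)) ∈ nonZeroDivisors Γ(X, V.1) := prod_mem fun k _ => hnzd k V hV
  have hdvd : ∀ j, ∃ M, (∏ k, res (g k)) = M * res (m j) ∧ M ∈ nonZeroDivisors Γ(X, V.1) := fun j => by
    rcases hj : σ j with _ | k
    · exact ⟨_, by simp [m, hj], hP⟩
    · refine ⟨∏ l ∈ Finset.univ.erase k, res (g l), ?_, prod_mem fun l _ => hnzd l V hV⟩
      simp only [m, hj, Option.elim_some]
      exact (Finset.prod_erase_mul Finset.univ (fun l => res (g l)) (Finset.mem_univ k)).symm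
  choose M hM hMn using hdvd
  let bV : Module.Basis (Fin n) Γ(X, V.1) (Ω'.val.obj (op V.1)) := hω.basis V.1 hV
  have hb : ∀ j, bV j = rs Ω' hV (ω j) := fun j => hω.basis_apply V.1 hV j
  let Φ : (Fin n → Γ(X, V.1)) →ₗ[Γ(X, V.1)] Λ.L.val.obj (op V.1) :=
    Fintype.linearCombination Γ(X, V.1) fun j => rs Λ.L hV (E j)
  change Function.Bijective Φ
  refine ⟨(injective_iff_map_eq_zero Φ).2 fun c hc => ?_, fun s => ?_⟩
  · have h2 : ap Λ.ι V.1 (∑ j, (c j * M j) • rs Ω' hV (ω j)) = (∏ k, res (g k)) • Φ c := by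
      rw [map_sum, Fintype.linearCombination_apply, Finset.smul_sum]
      refine Finset.sum_congr rfl fun j _ => ?_
      rw [map_smul, ← hmV, smul_smul, smul_smul, hM j]
      congr 1
      ring
    rw [hc, smul_zero, ← map_zero (ap Λ.ι V.1)] at h2
    have h3 := ι_injective Λ V.1 h2
    funext j
    refine (mem_nonZeroDivisors_iff_right.1 (hMn j)) _ ?_
    exact Fintype.linearIndependent_iff.1 bV.linearIndependent (fun j => c j * M j)
      (Eq.trans (Finset.sum_congr rfl fun j _ => congrArg _ (hb j)) (h3)) j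
  · suffices h : s ∈ LinearMap.range Φ from h
    have hE : ∀ j, rs Λ.L hV (E j) ∈ LinearMap.range Φ := fun j => ⟨Pi.single j 1, by simp [Φ]⟩
    have hι : ∀ w, ap Λ.ι V.1 w ∈ LinearMap.range Φ := fun w => by
      rw [← bV.sum_repr w, map_sum]
      refine Submodule.sum_mem _ fun j _ => ?_
      rw [map_smul, hb, ← hmV]
      exact Submodule.smul_mem _ _ (Submodule.smul_mem _ _ (hE j))
    obtain ⟨dl', h1', hr', -⟩ := exists_repr Λ V _ hgV
    obtain ⟨w, a, rfl⟩ := hr' s
    refine Submodule.add_mem _ (hι w) (Submodule.sum_mem _ fun k _ => Submodule.smul_mem _ _ ?_)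
    rcases hcov k with ⟨j, hj⟩ | hu
    · have e : dl' k = rs Λ.L hV (E j) := by
        refine eq_of_torsion Λ V _ hgV ?_
        have hk : res (g k) • dl' k = res (g k) • rs Λ.L hV (E j) := by
          rw [h1' k, ← rs_smul]
          simp only [E, hj, Option.elim_some]
          rw [h1 k]
          exact (congrArg (ap Λ.ι V.1) (d_rs d hV (g k)).symm).trans (ap_rs Λ.ι hV _)
        rw [← Finset.prod_erase_mul Finset.univ (fun l => res (g l)) (Finset.mem_univ k), mul_smul, mul_smul, hk]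
      rw [e]
      exact hE j
    · obtain ⟨v, hv⟩ := (hu.map res.hom)
      rw [← one_smul Γ(X, V.1) (dl' k), ← v.inv_mul, hv, mul_smul, h1' k]
      exact Submodule.smul_mem _ _ (hι _)

/-- Modules with frames around every point are locally free of that rank. -/
theorem isFinLocFreeOfRank_of_frames {M : X.Modules} {N : ℕ}
    (h : ∀ x : X, ∃ (U : X.Opens) (e : Fin N → Γ(M, U)), x ∈ U ∧ IsFrame M U e) :
    FlatMod.IsFinLocFreeOfRank N M := fun x => by
  obtain ⟨U, e, hx, he⟩ := h x
  exact ⟨U, hx, FinCov.exists_iso_of_frame he⟩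

end GrothLib.LogSeq1
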