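import Groth.Agent.Lib.LogSeq1.Basic

/-!
# The inclusion of logarithmic modules of sub-families
-/

set_option autoImplicit false
universe u

open CategoryTheory CategoryTheory.Limits AlgebraicGeometry Opposite TopologicalSpace

noncomputable section

namespace GrothLib.LogSeq1

variable {X S : Scheme.{u}} {f : X ⟶ S} {Ω' : X.Modules} {d : OmegaSh.Der f Ω'} {r : ℕ}
  {D : Fin (r + 1) → X.IdealSheafData} {i : Fin (r + 1)}
  (Λ : LogNCD.LogMod d D) (Λ' : LogNCD.LogMod d (D ∘ i.succAbove))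

theorem rs_rs (M : X.Modules) {U V W : X.Opens} (h : V ≤ U) (h' : W ≤ V) (m : M.val.obj (op U)) :
    rs M h' (rs M h m) = rs M (h'.trans h) m := by
  exact (ConcreteCategory.congr_hom (M.presheaf.map_comp (homOfLE h).op (homOfLE h').op) m).symm

theorem sections_ext (M : X.Modules) (W : X.Opens) (x y : M.val.obj (op W))
    (h : ∀ p ∈ W, ∃ (V : X.Opens) (hV : V ≤ W), p ∈ V ∧ rs M hV x = rs M hV y) : x = y := by
  choose V hV hp he using h
  exact TopCat.Sheaf.eq_of_locally_eq' ⟨M.presheaf, M.isSheaf⟩ (fun p : W => V p.1 p.2) W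
    (fun p => homOfLE (hV p.1 p.2)) (fun p hp' => Opens.mem_iSup.2 ⟨⟨p, hp'⟩, hp p hp'⟩) x y fun p => he p.1 p.2

/-- The two sections have the same polar part. -/
def Good (U : X.Opens) (g : Fin (r + 1) → Γ(X, U)) (x : Λ'.L.val.obj (op U)) (y : Λ.L.val.obj (op U)) : Prop :=
  ∃ ω, (∏ k, g k) • x = ap Λ'.ι U ω ∧ (∏ k, g k) • y = ap Λ.ι U ω

theorem Good.unique {U : X.affineOpens} {g : Fin (r + 1) → Γ(X, U.1)} (hg : IsEq D U g)
    {x : Λ'.L.val.obj (op U.1)} {y y' : Λ.L.val.obj (op U.1)} (h : Good Λ Λ' U.1 g x y)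
    (h' : Good Λ Λ' U.1 g x y') : y = y' := by
  obtain ⟨ω, h1, h2⟩ := h
  obtain ⟨ω', h1', h2'⟩ := h'
  have : ω = ω' := ι_injective Λ' U.1 (h1.symm.trans h1')
  subst this
  exact eq_of_torsion Λ U g hg (h2.trans h2'.symm)

theorem Good.mono {U V : X.affineOpens} {g : Fin (r + 1) → Γ(X, U.1)} (hg : IsEq D U g)
    {g' : Fin (r + 1) → Γ(X, V.1)} (hg' : IsEq D V g') (hVU : V.1 ≤ U.1)
    {x : Λ'.L.val.obj (op U.1)} {y : Λ.L.val.obj (op U.1)} (h : Good Λ Λ' U.1 g x y) :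
    Good Λ Λ' V.1 g' (rs _ hVU x) (rs _ hVU y) := by
  obtain ⟨ω, h1, h2⟩ := h
  have hc : ∀ k, ∃ c, c * X.presheaf.map (homOfLE hVU).op (g k) = g' k := fun k => by
    have h1 := (hg.mono hVU k).symm.trans (hg' k)
    have h2 : g' k ∈ Ideal.span {X.presheaf.map (homOfLE hVU).op (g k)} := by
      rw [h1]; exact Ideal.mem_span_singleton_self _
    exact Ideal.mem_span_singleton'.1 h2
  choose c hc using hc
  have hP : (∏ k, g' k) = (∏ k, c k) * X.presheaf.map (homOfLE hVU).op (∏ k, g k) := by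
    rw [map_prod, ← Finset.prod_mul_distrib]
    exact Finset.prod_congr rfl fun k _ => (hc k).symm
  refine ⟨(∏ k, c k) • rs Ω' hVU ω, ?_, ?_⟩ <;>
    rw [map_smul, hP, mul_smul, ← rs_smul, ap_rs]
  · rw [h1]
  · rw [h2]

theorem exists_good {U : X.affineOpens} {g : Fin (r + 1) → Γ(X, U.1)} (hg : IsEq D U g)
    (x : Λ'.L.val.obj (op U.1)) : ∃ y, Good Λ Λ' U.1 g x y := by
  obtain ⟨dl, h1, -, -⟩ := exists_repr Λ U g hg
  obtain ⟨dl', h1', hr', -⟩ := exists_repr Λ' U (g ∘ i.succAbove) (fun k => hg (i.succAbove k))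
  obtain ⟨ω, a, rfl⟩ := hr' x
  refine ⟨ap Λ.ι U.1 ω + ∑ k, a k • dl (i.succAbove k), ?_⟩
  have hd : ∀ k, ∃ c, (∏ l, g l) = c * g (i.succAbove k) := fun k =>
    ⟨_, (Finset.prod_erase_mul Finset.univ g (Finset.mem_univ (i.succAbove k))).symm⟩
  choose c hc using hd
  let δ : Fin r → Ω'.val.obj (op U.1) := fun k => d.app U.1 (g (i.succAbove k))
  refine ⟨(∏ l, g l) • ω + ∑ k, (a k * c k) • δ k, ?_, ?_⟩
  · rw [smul_add, Finset.smul_sum, map_add, map_sum, map_smul]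
    refine congrArg _ (Finset.sum_congr rfl fun k _ => ?_)
    rw [map_smul, show ap Λ'.ι U.1 (δ k) = g (i.succAbove k) • dl' k from (h1' k).symm, smul_smul, smul_smul,
      hc k]
    congr 1
    ring
  · rw [smul_add, Finset.smul_sum, map_add, map_sum, map_smul]
    refine congrArg _ (Finset.sum_congr rfl fun k _ => ?_)
    rw [map_smul, show ap Λ.ι U.1 (δ k) = g (i.succAbove k) • dl (i.succAbove k) from (h1 (i.succAbove k)).symm,
      smul_smul, smul_smul, hc k]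
    congr 1
    ring

/-- The defining property of the inclusion on sections over an open. -/
def Rel (W : X.Opens) (x : Λ'.L.val.obj (op W)) (y : Λ.L.val.obj (op W)) : Prop :=
  ∀ (U : X.affineOpens) (g : Fin (r + 1) → Γ(X, U.1)) (_ : IsEq D U g) (h : U.1 ≤ W),
    Good Λ Λ' U.1 g (rs _ h x) (rs _ h y)

theorem existsUnique_rel (hD : LogNCD.IsNCD D f) (W : X.Opens) (x : Λ'.L.val.obj (op W)) :
    ∃! y, Rel Λ Λ' W x y := by
  classical
  let ι' := {q : Σ U : X.affineOpens, (Fin (r + 1) → Γ(X, U.1)) // IsEq D q.1 q.2 ∧ q.1.1 ≤ W}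
  choose y hy using fun q : ι' => exists_good Λ Λ' q.2.1 (rs _ q.2.2 x)
  have hagree : ∀ (q : ι') (V : X.affineOpens) (g' : Fin (r + 1) → Γ(X, V.1)) (hg' : IsEq D V g')
      (h : V.1 ≤ q.1.1.1), Good Λ Λ' V.1 g' (rs _ (h.trans q.2.2) x) (rs _ h (y q)) := fun q V g' hg' h => by
    have := (hy q).mono Λ Λ' q.2.1 hg' h
    rwa [rs_rs] at this
  have hcov : W ≤ ⨆ q : ι', q.1.1.1 := fun p hp => by
    obtain ⟨U, g, hpU, hUW, hg⟩ := exists_isEq hD p W hp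
    exact Opens.mem_iSup.2 ⟨⟨⟨U, g⟩, hg, hUW⟩, hpU⟩
  have hcomp : ∀ q q' : ι', rs Λ.L (inf_le_left : q.1.1.1 ⊓ q'.1.1.1 ≤ _) (y q) =
      rs Λ.L (inf_le_right : q.1.1.1 ⊓ q'.1.1.1 ≤ _) (y q') := fun q q' =>
    sections_ext _ _ _ _ fun p hp => by
      obtain ⟨V, g', hpV, hVle, hg'⟩ := exists_isEq hD p _ hp
      refine ⟨V.1, hVle, hpV, ?_⟩
      rw [rs_rs, rs_rs]
      exact Good.unique Λ Λ' hg' (hagree q V g' hg' (hVle.trans inf_le_left))
        (hagree q' V g' hg' (hVle.trans inf_le_right))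
  obtain ⟨Y, hY, -⟩ := TopCat.Sheaf.existsUnique_gluing' ⟨Λ.L.presheaf, Λ.L.isSheaf⟩ (fun q : ι' => q.1.1.1) W
    (fun q => homOfLE q.2.2) hcov (fun q => (y q : Γ(Λ.L, q.1.1.1))) (fun q q' => hcomp q q')
  have hrel : Rel Λ Λ' W x Y := fun U g hg h => by
    have := hy ⟨⟨U, g⟩, hg, h⟩
    rwa [← show rs Λ.L h Y = y ⟨⟨U, g⟩, hg, h⟩ from hY ⟨⟨U, g⟩, hg, h⟩] at this
  refine ⟨Y, hrel, fun Y' hY' => sections_ext _ _ _ _ fun p hp => ?_⟩
  obtain ⟨U, g, hpU, hUW, hg⟩ := exists_isEq hD p W hp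
  exact ⟨U.1, hUW, hpU, Good.unique Λ Λ' hg (hY' U g hg hUW) (hrel U g hg hUW)⟩

theorem exists_isSubLog (hD : LogNCD.IsNCD D f) : ∃ κ : Λ'.L ⟶ Λ.L, LogNCD.IsSubLog Λ' Λ κ := by
  classical
  choose φ hφ using fun W x => (existsUnique_rel Λ Λ' hD W x).exists
  have huniq : ∀ W x y, Rel Λ Λ' W x y → y = φ W x := fun W x y hy =>
    (existsUnique_rel Λ Λ' hD W x).unique hy (hφ W x)
  have hadd : ∀ W x x', φ W (x + x') = φ W x + φ W x' := fun W x x' => by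
    refine (huniq W _ _ fun U g hg h => ?_).symm
    obtain ⟨ω, h1, h2⟩ := hφ W x U g hg h
    obtain ⟨ω', h1', h2'⟩ := hφ W x' U g hg h
    refine ⟨ω + ω', ?_, ?_⟩
    · rw [show rs Λ'.L h (x + x') = rs Λ'.L h x + rs Λ'.L h x' from map_add _ _ _, smul_add, map_add, h1, h1']
    · rw [show rs Λ.L h (φ W x + φ W x') = rs Λ.L h (φ W x) + rs Λ.L h (φ W x') from map_add _ _ _, smul_add,
        map_add, h2, h2']
  have hsmul : ∀ (W : X.Opens) (a : Γ(X, W)) x, φ W (a • x) = a • φ W x := fun W a x => by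
    refine (huniq W _ _ fun U g hg h => ?_).symm
    obtain ⟨ω, h1, h2⟩ := hφ W x U g hg h
    refine ⟨(X.presheaf.map (homOfLE h).op a) • ω, ?_, ?_⟩
    · rw [rs_smul, smul_comm, h1, map_smul]
    · rw [rs_smul, smul_comm, h2, map_smul]
  have hnat : ∀ {W W' : X.Opens} (e : W' ≤ W) x, φ W' (rs _ e x) = rs _ e (φ W x) := fun {W W'} e x => by
    refine (huniq W' _ _ fun U g hg h => ?_).symm
    rw [rs_rs, rs_rs]
    exact hφ W x U g hg (h.trans e)
  let T : Λ'.L.presheaf ⟶ Λ.L.presheaf :=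
    { app := fun W => AddCommGrpCat.ofHom (AddMonoidHom.mk' (φ W.unop) (hadd W.unop))
      naturality := fun W W' e => ConcreteCategory.hom_ext _ _ fun x => hnat e.unop.le x }
  let κ : Λ'.L ⟶ Λ.L := ⟨PresheafOfModules.homMk T fun W a x => hsmul W.unop a x⟩
  refine ⟨κ, Scheme.Modules.hom_ext _ _ fun W => ConcreteCategory.hom_ext _ _ fun ω => ?_⟩
  refine (huniq W (ap Λ'.ι W ω) (ap Λ.ι W ω) fun U g hg h => ⟨(∏ k, g k) • rs Ω' h ω, ?_, ?_⟩).symm
  · exact ((map_smul (ap Λ'.ι U.1) _ _).trans (congrArg _ (ap_rs Λ'.ι h ω))).symm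
  · exact ((map_smul (ap Λ.ι U.1) _ _).trans (congrArg _ (ap_rs Λ.ι h ω))).symm

end GrothLib.LogSeq1

namespace GrothLib.LogSeq1

variable {X S : Scheme.{u}} {f : X ⟶ S} {Ω' : X.Modules} {d : OmegaSh.Der f Ω'} {r : ℕ}
  {D : Fin (r + 1) → X.IdealSheafData} {i : Fin (r + 1)}
  {Λ : LogNCD.LogMod d D} {Λ' : LogNCD.LogMod d (D ∘ i.succAbove)} {κ : Λ'.L ⟶ Λ.L}

theorem ap_ι_of_isSubLog (hκ : LogNCD.IsSubLog Λ' Λ κ) (W : X.Opens) (ω : Ω'.val.obj (op W)) :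
    ap κ W (ap Λ'.ι W ω) = ap Λ.ι W ω :=
  congrArg (fun k => ap k W ω) hκ

theorem injective_of_isSubLog (hκ : LogNCD.IsSubLog Λ' Λ κ) (U : X.affineOpens) (g : Fin (r + 1) → Γ(X, U.1))
    (hg : IsEq D U g) : Function.Injective (ap κ U.1) := by
  refine (injective_iff_map_eq_zero _).2 fun x hx => ?_
  obtain ⟨dl', h1', hr', -⟩ := exists_repr Λ' U (g ∘ i.succAbove) (fun k => hg (i.succAbove k))
  have hP : (∏ l, g l) = g i * ∏ k, g (i.succAbove k) := Fin.prod_univ_succAbove g i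
  let P' := ∏ k, g (i.succAbove k)
  obtain ⟨ω, a, rfl⟩ := hr' x
  have hd : ∀ k, ∃ c, P' = c * g (i.succAbove k) := fun k =>
    ⟨_, (Finset.prod_erase_mul Finset.univ (g ∘ i.succAbove) (Finset.mem_univ k)).symm⟩
  choose c hc using hd
  let δ : Fin r → Ω'.val.obj (op U.1) := fun k => d.app U.1 (g (i.succAbove k))
  have hx' : P' • (ap Λ'.ι U.1 ω + ∑ k, a k • dl' k) = ap Λ'.ι U.1 (P' • ω + ∑ k, (a k * c k) • δ k) := by
    rw [smul_add, Finset.smul_sum, map_add, map_sum, map_smul]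
    refine congrArg _ (Finset.sum_congr rfl fun k _ => ?_)
    rw [map_smul, show ap Λ'.ι U.1 (δ k) = g (i.succAbove k) • dl' k from (h1' k).symm, smul_smul, smul_smul, hc k]
    congr 1
    ring
  have h0 : P' • ω + ∑ k, (a k * c k) • δ k = 0 := by
    refine ι_injective Λ U.1 ?_
    rw [map_zero, ← ap_ι_of_isSubLog hκ, ← hx', map_smul, hx, smul_zero]
  refine eq_of_torsion Λ' U (g ∘ i.succAbove) (fun k => hg (i.succAbove k)) ?_
  rw [smul_zero]
  exact hx'.trans (by rw [h0, map_zero])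

theorem exists_of_res_eq_zero' (hκ : LogNCD.IsSubLog Λ' Λ κ) (U : X.affineOpens) (g : Fin (r + 1) → Γ(X, U.1))
    (hg : IsEq D U g) (x : Λ.L.val.obj (op U.1)) (hx : ap (Λ.res i) U.1 x = 0) :
    ∃ z, ap κ U.1 z = x := by
  obtain ⟨dl, h1, hr, hres⟩ := exists_repr Λ U g hg
  obtain ⟨dl', h1', -, -⟩ := exists_repr Λ' U (g ∘ i.succAbove) (fun k => hg (i.succAbove k))
  have hd : ∀ k, ap κ U.1 (dl' k) = dl (i.succAbove k) := fun k => by
    refine eq_of_torsion Λ U g hg ?_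
    obtain ⟨c, hc⟩ : ∃ c, (∏ l, g l) = c * g (i.succAbove k) :=
      ⟨_, (Finset.prod_erase_mul Finset.univ g (Finset.mem_univ (i.succAbove k))).symm⟩
    rw [hc, mul_smul, mul_smul, h1 (i.succAbove k)]
    refine congrArg _ ?_
    rw [← map_smul]
    exact (congrArg (ap κ U.1) (h1' k)).trans (ap_ι_of_isSubLog hκ _ _)
  obtain ⟨ω, a, rfl⟩ := hr x
  obtain ⟨c, hc⟩ : ∃ c, c * g i = a i := by
    have := (smul_oneOn_eq_zero (D i) U (a i)).1 ((hres ω a i).symm.trans hx)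
    rwa [hg i, Ideal.mem_span_singleton'] at this
  let δ : Ω'.val.obj (op U.1) := d.app U.1 (g i)
  refine ⟨ap Λ'.ι U.1 (ω + c • δ) + ∑ k, a (i.succAbove k) • dl' k, ?_⟩
  rw [map_add (ap κ U.1), map_sum, ap_ι_of_isSubLog hκ, Fin.sum_univ_succAbove _ i, map_add, map_smul,
    show ap Λ.ι U.1 δ = g i • dl i from (h1 i).symm, smul_smul, hc, add_assoc]
  refine congrArg _ (congrArg _ (Finset.sum_congr rfl fun k _ => ?_))
  rw [map_smul, hd]

theorem exists_of_res' (Λ : LogNCD.LogMod d D) (i : Fin (r + 1)) (U : X.affineOpens) (g : Fin (r + 1) → Γ(X, U.1))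
    (hg : IsEq D U g) (z : (ClSub.quotMod (D i)).val.obj (op U.1)) : ∃ x, ap (Λ.res i) U.1 x = z := by
  classical
  obtain ⟨dl, -, -, hres⟩ := exists_repr Λ U g hg
  obtain ⟨a, ha⟩ := exists_smul_oneOn (D i) U z
  exact ⟨_, (hres 0 (Function.update 0 i a) i).trans (by rw [Function.update_self]; exact ha)⟩

end GrothLib.LogSeq1
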