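import Groth.Agent.Lib.LogSeq1.Frac

/-!
# Spans of logarithmic differentials on principal charts
-/

set_option autoImplicit false
universe u

open CategoryTheory CategoryTheory.Limits AlgebraicGeometry Opposite TopologicalSpace
open GrothLib.FinCov (IsFrame)

noncomputable section

namespace GrothLib.LogSeq1

variable {X S : Scheme.{u}} {f : X ⟶ S} [Smooth f] {Ω' : X.Modules} {d : OmegaSh.Der f Ω'} {r : ℕ}
  {D : Fin r → X.IdealSheafData}

/-- The inclusion of forms into fractions. -/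
abbrev ι₀ (D : Fin r → X.IdealSheafData) (Ω' : X.Modules) (W : X.Opens) :
    Ω'.val.obj (op W) →ₗ[Γ(X, W)] (amb (outside D) Ω').val.obj (op W) :=
  ap (toAmb (outside D) Ω') W

theorem res_res {U V W : X.Opens} (h : V ≤ U) (h' : W ≤ V) (a : Γ(X, U)) :
    X.presheaf.map (homOfLE h').op (X.presheaf.map (homOfLE h).op a) =
      X.presheaf.map (homOfLE (h'.trans h)).op a :=
  (ConcreteCategory.congr_hom (X.presheaf.map_comp (homOfLE h).op (homOfLE h').op) a).symm

theorem eq_zero_of_locally {U : X.Opens} (a : Γ(X, U))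
    (h : ∀ p ∈ U, ∃ (V : X.Opens) (hV : V ≤ U), p ∈ V ∧ X.presheaf.map (homOfLE hV).op a = 0) : a = 0 := by
  choose V hV hp h0 using h
  refine TopCat.Sheaf.eq_of_locally_eq' X.sheaf (fun p : U => V p.1 p.2) U (fun p => homOfLE (hV p.1 p.2))
    (fun p hp' => Opens.mem_iSup.2 ⟨⟨p, hp'⟩, hp p hp'⟩) a 0 fun p => ?_
  exact (h0 p.1 p.2).trans (map_zero (X.presheaf.map (homOfLE (hV p.1 p.2)).op).hom).symm

include d in
theorem mem_nonZeroDivisors_of_isEq (hd : OmegaSh.IsUniversal d) (hD : LogNCD.IsNCD D f) {U : X.affineOpens}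
    {g : Fin r → Γ(X, U.1)} (hg : IsEq D U g) (k : Fin r) : g k ∈ nonZeroDivisors Γ(X, U.1) := by
  refine mem_nonZeroDivisors_iff_right.2 fun a ha => eq_zero_of_locally a fun p hp => ?_
  obtain ⟨V, t, m, ω, σ, hpV, hVU, ht, -, -, -, -, hnzd⟩ := exists_chart (d := d) hd hD p U.1 hp
  refine ⟨V.1, hVU, hpV, ?_⟩
  have htk : t k ∈ nonZeroDivisors Γ(X, V.1) := by
    have := hnzd k V le_rfl
    simpa using this
  obtain ⟨c, hc⟩ : ∃ c, c * X.presheaf.map (homOfLE hVU).op (g k) = t k := by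
    refine Ideal.mem_span_singleton'.1 ?_
    rw [← hg.mono hVU k, ht k]
    exact Ideal.mem_span_singleton_self _
  refine mem_nonZeroDivisors_iff_right.1 htk _ ?_
  rw [← hc, mul_left_comm, ← map_mul, ha, map_zero, mul_zero]

include d in
theorem exists_unit_change (hd : OmegaSh.IsUniversal d) (hD : LogNCD.IsNCD D f) {U V : X.affineOpens}
    {g : Fin r → Γ(X, U.1)} (hg : IsEq D U g) {g' : Fin r → Γ(X, V.1)} (hg' : IsEq D V g') (hVU : V.1 ≤ U.1)
    (k : Fin r) : ∃ v : Γ(X, V.1)ˣ, X.presheaf.map (homOfLE hVU).op (g k) = v * g' k := by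
  obtain ⟨c, hc⟩ : ∃ c, c * g' k = X.presheaf.map (homOfLE hVU).op (g k) := by
    refine Ideal.mem_span_singleton'.1 ?_
    rw [← hg' k, hg.mono hVU k]
    exact Ideal.mem_span_singleton_self _
  obtain ⟨c', hc'⟩ : ∃ c', c' * X.presheaf.map (homOfLE hVU).op (g k) = g' k := by
    refine Ideal.mem_span_singleton'.1 ?_
    rw [← hg.mono hVU k, hg' k]
    exact Ideal.mem_span_singleton_self _
  have h1 : c' * c = 1 := by
    refine sub_eq_zero.1 (mem_nonZeroDivisors_iff_right.1 (mem_nonZeroDivisors_of_isEq hd hD hg' k) _ ?_)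
    rw [sub_mul, one_mul, mul_assoc, hc, hc', sub_self]
  exact ⟨Units.mkOfMulEqOne c c' (by rw [mul_comm, h1]), hc.symm⟩

theorem exists_rs_dlog (hd : OmegaSh.IsUniversal d) (hD : LogNCD.IsNCD D f) {U V : X.affineOpens}
    {g : Fin r → Γ(X, U.1)} (hg : IsEq D U g) {g' : Fin r → Γ(X, V.1)} (hg' : IsEq D V g') (hVU : V.1 ≤ U.1)
    (k : Fin r) : ∃ w, rs _ hVU (dlog d hg k) = ι₀ D Ω' V.1 w + dlog d hg' k := by
  obtain ⟨v, hv⟩ := exists_unit_change hd hD hg hg' hVU k
  let δv : Ω'.val.obj (op V.1) := d.app V.1 (v : Γ(X, V.1))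
  let δg : Ω'.val.obj (op V.1) := d.app V.1 (g' k)
  refine ⟨((v⁻¹ : Units _) : Γ(X, V.1)) • δv, ?_⟩
  refine smul_left_injective (hg.mono hVU) k _ _ ?_
  rw [← rs_smul, smul_dlog, ← ap_rs, d_rs, hv, smul_add, ← map_smul, mul_smul (v : Γ(X, V.1)) (g' k) (dlog d hg' k),
    smul_dlog, ← map_smul, ← map_add]
  refine congrArg _ ?_
  refine (d.d_mul (X := op V.1) (v : Γ(X, V.1)) (g' k)).trans ?_
  show (v : Γ(X, V.1)) • δg + g' k • δv = ((v : Γ(X, V.1)) * g' k) • ((v⁻¹ : Units _) : Γ(X, V.1)) • δv +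
    (v : Γ(X, V.1)) • δg
  rw [smul_smul, mul_comm (v : Γ(X, V.1)) (g' k), mul_assoc, Units.mul_inv, mul_one]
  exact add_comm _ _

/-- The combination of forms and logarithmic differentials. -/
def comb (d : OmegaSh.Der f Ω') {U : X.affineOpens} {g : Fin r → Γ(X, U.1)} (hg : IsEq D U g)
    (w : Ω'.val.obj (op U.1)) (a : Fin r → Γ(X, U.1)) : (amb (outside D) Ω').val.obj (op U.1) :=
  ι₀ D Ω' U.1 w + ∑ k, a k • dlog d hg k

theorem exists_rs_comb (hd : OmegaSh.IsUniversal d) (hD : LogNCD.IsNCD D f) {U V : X.affineOpens}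
    {g : Fin r → Γ(X, U.1)} (hg : IsEq D U g) {g' : Fin r → Γ(X, V.1)} (hg' : IsEq D V g') (hVU : V.1 ≤ U.1)
    (w : Ω'.val.obj (op U.1)) (a : Fin r → Γ(X, U.1)) :
    ∃ w', rs _ hVU (comb d hg w a) = comb d hg' w' fun k => X.presheaf.map (homOfLE hVU).op (a k) := by
  choose c hc using exists_rs_dlog hd hD hg hg' hVU
  refine ⟨rs Ω' hVU w + ∑ k, (X.presheaf.map (homOfLE hVU).op (a k)) • c k, ?_⟩
  unfold comb
  rw [show rs _ hVU (ι₀ D Ω' U.1 w + ∑ k, a k • dlog d hg k) =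
    rs _ hVU (ι₀ D Ω' U.1 w) + ∑ k, rs _ hVU (a k • dlog d hg k) from (map_add _ _ _).trans (congrArg _ (map_sum _ _ _)),
    ← ap_rs, map_add (ι₀ D Ω' V.1), map_sum, add_assoc, ← Finset.sum_add_distrib]
  refine congrArg _ (Finset.sum_congr rfl fun k _ => ?_)
  rw [rs_smul, hc, smul_add, map_smul]

theorem comb_add {U : X.affineOpens} {g : Fin r → Γ(X, U.1)} (hg : IsEq D U g) (w w' : Ω'.val.obj (op U.1))
    (a a' : Fin r → Γ(X, U.1)) : comb d hg (w + w') (a + a') = comb d hg w a + comb d hg w' a' := by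
  simp only [comb, map_add, Pi.add_apply, add_smul, Finset.sum_add_distrib]
  abel

theorem comb_smul {U : X.affineOpens} {g : Fin r → Γ(X, U.1)} (hg : IsEq D U g) (c : Γ(X, U.1))
    (w : Ω'.val.obj (op U.1)) (a : Fin r → Γ(X, U.1)) : comb d hg (c • w) (c • a) = c • comb d hg w a := by
  simp only [comb, map_smul, Pi.smul_apply, smul_add, Finset.smul_sum, smul_smul, smul_eq_mul]

include d in
theorem ι₀_injective (hd : OmegaSh.IsUniversal d) (hD : LogNCD.IsNCD D f) (W : X.Opens) :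
    Function.Injective (ι₀ D Ω' W) := by
  refine (injective_iff_map_eq_zero _).2 fun w hw => sections_ext _ _ _ _ fun p hp => ?_
  obtain ⟨V, t, m, ω, σ, hpV, hVW, ht, hω, -, -, -, hnzd⟩ := exists_chart (d := d) hd hD p W hp
  refine ⟨V.1, hVW, hpV, Eq.trans ?_ (map_zero (Ω'.val.map (homOfLE hVW).op).hom).symm⟩
  have h0 : rs Ω' (oW_le (outside D) V.1) (rs Ω' hVW w) = 0 :=
    (ap_rs (toAmb (outside D) Ω') hVW w).trans ((congrArg (rs _ hVW) hw).trans (map_zero _))
  let bV : Module.Basis (Fin m) Γ(X, V.1) (Ω'.val.obj (op V.1)) := hω.basis V.1 le_rfl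
  let bO : Module.Basis (Fin m) Γ(X, oW (outside D) V.1) (Ω'.val.obj (op (oW (outside D) V.1))) :=
    hω.basis (oW (outside D) V.1) (oW_le _ _)
  have hsum : rs Ω' (oW_le (outside D) V.1) (rs Ω' hVW w) =
      ∑ j, X.presheaf.map (homOfLE (oW_le (outside D) V.1)).op (bV.repr (rs Ω' hVW w) j) • bO j := by
    conv_lhs => rw [← bV.sum_repr (rs Ω' hVW w)]
    refine (map_sum (Ω'.val.map (homOfLE (oW_le (outside D) V.1)).op).hom _ _).trans
      (Finset.sum_congr rfl fun j _ => ?_)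
    refine (rs_smul Ω' _ _ _).trans (congrArg _ ?_)
    exact ((congrArg (rs Ω' _) (hω.basis_apply V.1 le_rfl j)).trans (rs_rs Ω' le_rfl (oW_le _ _) (ω j))).trans
      (hω.basis_apply (oW (outside D) V.1) (oW_le _ _) j).symm
  have hc : ∀ j, bV.repr (rs Ω' hVW w) j = 0 := fun j => by
    have h1 := Fintype.linearIndependent_iff.1 bO.linearIndependent _ (hsum.symm.trans h0) j
    obtain ⟨n, hn⟩ : ∃ n : ℕ, (∏ k, t k) ^ n * bV.repr (rs Ω' hVW w) j = 0 := by
      have hle : X.basicOpen (∏ k, t k) ≤ oW (outside D) V.1 := (oW_outside ht).ge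
      haveI := V.2.isLocalization_basicOpen (∏ k, t k)
      obtain ⟨⟨_, n, rfl⟩, hn⟩ := (IsLocalization.map_eq_zero_iff (Submonoid.powers (∏ k, t k))
        Γ(X, X.basicOpen (∏ k, t k)) (bV.repr (rs Ω' hVW w) j)).1 (by
          have h2 := congrArg (X.presheaf.map (homOfLE hle).op) h1
          rw [res_res, map_zero] at h2
          exact h2)
      exact ⟨n, hn⟩
    refine mem_nonZeroDivisors_iff_left.1 (pow_mem (prod_mem fun k _ => ?_) n) _ hn
    simpa using hnzd k V le_rfl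
  refine (bV.sum_repr (rs Ω' hVW w)).symm.trans (Finset.sum_eq_zero fun j _ => ?_)
  rw [hc, zero_smul]

/-- The coefficient of a logarithmic differential is determined modulo its equation. -/
theorem coeff_mem (hd : OmegaSh.IsUniversal d) (hD : LogNCD.IsNCD D f) {U : X.affineOpens}
    {g : Fin r → Γ(X, U.1)} (hg : IsEq D U g) {w : Ω'.val.obj (op U.1)} {a : Fin r → Γ(X, U.1)}
    (h : comb d hg w a = 0) (i : Fin r) : a i • LogNCD.oneOn (D i) U.1 = 0 := by
  classical
  refine sections_ext _ _ _ _ fun p hp => ?_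
  obtain ⟨V, t, m, ω, σ, hpV, hVU, ht, hω, hσ, hinj, hcov, hnzd⟩ := exists_chart (d := d) hd hD p U.1 hp
  refine ⟨V.1, hVU, hpV, Eq.trans ?_ (map_zero ((ClSub.quotMod (D i)).val.map (homOfLE hVU).op).hom).symm⟩
  let a' : Fin r → Γ(X, V.1) := fun k => X.presheaf.map (homOfLE hVU).op (a k)
  have e1 : rs (ClSub.quotMod (D i)) hVU (a i • LogNCD.oneOn (D i) U.1) = a' i • LogNCD.oneOn (D i) V.1 := by
    rw [smul_oneOn, smul_oneOn, ← ap_rs]
    rfl
  refine e1.trans ((smul_oneOn_eq_zero _ _ _).2 ?_)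
  rw [ht i, Ideal.mem_span_singleton']
  obtain ⟨w', hw'⟩ := exists_rs_comb hd hD hg ht hVU w a
  have h0 : comb d ht w' a' = 0 := hw'.symm.trans ((congrArg (rs _ hVU) h).trans (map_zero _))
  rcases hcov i with ⟨j, hj⟩ | h1
  swap
  · exact ⟨a' i, by rw [h1, mul_one]⟩
  let δ : Fin r → Ω'.val.obj (op V.1) := fun k => d.app V.1 (t k)
  let M : Fin r → Γ(X, V.1) := fun k => ∏ l ∈ Finset.univ.erase k, t l
  have hM : ∀ k, M k * t k = ∏ l, t l := fun k => Finset.prod_erase_mul Finset.univ t (Finset.mem_univ k)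
  have h2 : (∏ l, t l) • w' + ∑ k, (a' k * M k) • δ k = 0 := by
    refine ι₀_injective (d := d) hd hD V.1 ?_
    rw [map_zero, map_add, map_smul, map_sum, ← smul_zero (∏ l, t l), ← h0]
    unfold comb
    rw [smul_add, Finset.smul_sum]
    refine congrArg _ (Finset.sum_congr rfl fun k _ => ?_)
    rw [map_smul, ← smul_dlog d ht k, smul_smul, smul_smul, ← hM k]
    congr 1
    ring
  let bV : Module.Basis (Fin m) Γ(X, V.1) (Ω'.val.obj (op V.1)) := hω.basis V.1 le_rfl
  have hb : ∀ j, bV j = ω j := fun j => (hω.basis_apply V.1 le_rfl j).trans (by simp)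
  have hδ : ∀ k, bV.repr (δ k) j = if k = i then 1 else 0 := fun k => by
    rcases hcov k with ⟨j', hj'⟩ | h1
    · have e : δ k = bV j' := ((hb j').trans (hσ j' k hj')).symm
      rw [e, Module.Basis.repr_self, Finsupp.single_apply]
      by_cases hk : k = i
      · subst hk
        rw [if_pos rfl, if_pos (hinj j' j k hj' hj)]
      · rw [if_neg hk, if_neg]
        rintro rfl
        exact hk (Option.some.inj (hj'.symm.trans hj))
    · have e : δ k = 0 := by
        show d.app V.1 (t k) = 0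
        rw [h1]
        exact d.d_one (op V.1)
      rw [e, map_zero, Finsupp.zero_apply, if_neg]
      rintro rfl
      have hz : ω j = 0 := (hσ j k hj).trans e
      haveI : Nontrivial Γ(X, V.1) :=
        @LocallyRingedSpace.component_nontrivial X.toLocallyRingedSpace V.1 ⟨⟨p, hpV⟩⟩
      exact bV.ne_zero j ((hb j).trans hz)
  have h3 : bV.repr ((∏ l, t l) • w' + ∑ k, (a' k * M k) • δ k) j = 0 := by rw [h2, map_zero, Finsupp.zero_apply]
  rw [map_add, map_smul, map_sum, Finsupp.add_apply, Finsupp.smul_apply, Finsupp.finsetSum_apply] at h3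
  simp only [map_smul, Finsupp.smul_apply, hδ, smul_eq_mul, mul_ite, mul_one, mul_zero, Finset.sum_ite_eq',
    Finset.mem_univ, if_true] at h3
  refine ⟨-bV.repr w' j, ?_⟩
  have hMn : M i ∈ nonZeroDivisors Γ(X, V.1) := prod_mem fun l _ => by simpa using hnzd l V le_rfl
  refine sub_eq_zero.1 (mem_nonZeroDivisors_iff_right.1 hMn _ ?_)
  rw [← hM i] at h3
  linear_combination (-1 : Γ(X, V.1)) * h3

end GrothLib.LogSeq1
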